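import Cfsg.Agent.Lib.Lie.PMin.Core
import Cfsg.Agent.Lib.Lie.SylowOver.LieInst
import Cfsg.Agent.Lib.Lie.Chev.DiagSym
import Cfsg.Agent.Lib.Lie.Chev.FullAll
import Cfsg.Agent.Lib.Lie.Chev.AutData
import Cfsg.Agent.Lib.Lie.Chev.Tw.Out.OrbSub

/-!
# The three patterns in groups with a BN-pair: Chevalley and twisted groups
-/

set_option autoImplicit false

namespace CfsgLib.Lie.PMin

open Cfsg Cfsg.Lie CfsgLib.Lie.Chev
open scoped MatrixGroups

section BN

variable {G : Type*} [Group G] (P : Cfsg.BNPair G)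

theorem parabolic_S : P.parabolic P.S = ⊤ := by
  rw [eq_top_iff, ← P.sup_eq_top]
  refine sup_le le_sup_left ?_
  rw [← P.closure_sup]
  exact sup_le le_sup_right (inf_le_left.trans le_sup_left)

theorem parabolic_ne_top {J : Set G} (hJ : J ⊆ P.S) {s : G} (hs : s ∈ P.S) (hsJ : s ∉ J) : P.parabolic J ≠ ⊤ :=
  fun h => hsJ (BN.mem_of_parabolic P hJ hs (h ▸ Subgroup.mem_top s))

theorem B_ne_top {s : G} (hs : s ∈ P.S) : P.B ≠ ⊤ := fun h => BN.not_mem_B P hs (h ▸ Subgroup.mem_top s)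

theorem parabolic_empty : P.parabolic ∅ = P.B := by
  rw [Cfsg.BNPair.parabolic, Subgroup.closure_empty, sup_bot_eq]

variable {P} {U : Subgroup G}

theorem oneAt_bn (hB : Subgroup.normalizer (U : Set G) = P.B) {s : G} (hS : P.S = {s}) : OneAt U := by
  refine ⟨hB ▸ B_ne_top P (hS ▸ rfl : s ∈ P.S), fun H hH hne => ?_⟩
  rw [hB] at hH ⊢
  rw [BN.eq_parabolic_of_le P H hH, show P.S ∩ (H : Set G) = ∅ from ?_, parabolic_empty]
  ext x
  simp only [Set.mem_inter_iff, Set.mem_empty_iff_false, iff_false, not_and]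
  intro hx hxH
  refine hne ?_
  rw [hS, Set.mem_singleton_iff] at hx
  subst hx
  rw [BN.eq_parabolic_of_le P H hH, show P.S ∩ (H : Set G) = P.S by
    ext y
    simp only [Set.mem_inter_iff, and_iff_left_iff_imp]
    intro hy
    rw [hS, Set.mem_singleton_iff] at hy
    exact hy ▸ hxH, parabolic_S]

theorem twoAt_bn (hB : Subgroup.normalizer (U : Set G) = P.B) {a b : G} (hab : a ≠ b) (hS : P.S = {a, b}) :
    TwoAt U := by
  have ha : a ∈ P.S := hS ▸ Set.mem_insert _ _
  have hb : b ∈ P.S := hS ▸ Set.mem_insert_of_mem _ rfl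
  refine ⟨P.parabolic {a}, P.parabolic {b}, hB ▸ le_sup_left, hB ▸ le_sup_left,
    parabolic_ne_top P (Set.singleton_subset_iff.2 ha) hb (fun h => hab h.symm),
    parabolic_ne_top P (Set.singleton_subset_iff.2 hb) ha hab, ?_, fun H hH hne => ?_⟩
  · rw [eq_top_iff, ← parabolic_S P, hS]
    refine sup_le (le_sup_left.trans le_sup_left) ((Subgroup.closure_le _).2 ?_)
    rintro x (rfl | rfl)
    · exact Subgroup.mem_sup_left (Subgroup.mem_sup_right (Subgroup.subset_closure rfl))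
    · exact Subgroup.mem_sup_right (Subgroup.mem_sup_right (Subgroup.subset_closure rfl))
  rw [hB] at hH ⊢
  have hH' := BN.eq_parabolic_of_le P H hH
  by_cases haH : a ∈ H <;> by_cases hbH : b ∈ H
  · refine absurd ?_ hne
    rw [hH', show P.S ∩ (H : Set G) = P.S from Set.inter_eq_left.2 (by rw [hS]; rintro x (rfl | rfl) <;> assumption),
      parabolic_S]
  · exact Or.inr (Or.inl (hH'.trans (congrArg P.parabolic (by
      ext x
      simp only [hS, Set.mem_inter_iff, Set.mem_insert_iff, Set.mem_singleton_iff, SetLike.mem_coe]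
      exact ⟨fun h => h.1.resolve_right fun e => hbH (e ▸ h.2), fun e => ⟨Or.inl e, e ▸ haH⟩⟩))))
  · exact Or.inr (Or.inr (hH'.trans (congrArg P.parabolic (by
      ext x
      simp only [hS, Set.mem_inter_iff, Set.mem_insert_iff, Set.mem_singleton_iff, SetLike.mem_coe]
      exact ⟨fun h => h.1.resolve_left fun e => haH (e ▸ h.2), fun e => ⟨Or.inr e, e ▸ hbH⟩⟩))))
  · refine Or.inl (hH'.trans ((congrArg P.parabolic ?_).trans (parabolic_empty P)))
    ext x
    simp only [hS, Set.mem_inter_iff, Set.mem_insert_iff, Set.mem_singleton_iff, SetLike.mem_coe,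
      Set.mem_empty_iff_false, iff_false, not_and]
    rintro (rfl | rfl) <;> assumption

/-- two complementary parabolic subgroups, fixed when the automorphisms respect the partition -/
theorem splitAt_bn [Finite G] (hB : Subgroup.normalizer (U : Set G) = P.B) {J : Set G} (hJ : J ⊆ P.S)
    {s t : G} (hs : s ∈ J) (ht : t ∈ P.S) (htJ : t ∉ J)
    (hperm : ∀ β : MulAut G, U.map β.toMonoidHom = U → ∀ x ∈ P.S, ∃ y ∈ P.S, (x ∈ J ↔ y ∈ J) ∧
      (P.parabolic {x}).map β.toMonoidHom = P.parabolic {y}) : SplitAt U := by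
  have hUB : U ≤ P.B := hB ▸ Subgroup.le_normalizer
  refine ⟨P.parabolic J, P.parabolic (P.S \ J), hUB.trans le_sup_left, hUB.trans le_sup_left,
    parabolic_ne_top P hJ ht htJ, parabolic_ne_top P Set.sdiff_subset (hJ hs) (fun h => h.2 hs), ?_,
    fun β hβ => ?_⟩
  · rw [eq_top_iff, ← parabolic_S P]
    refine sup_le (le_sup_left.trans le_sup_left) ((Subgroup.closure_le _).2 fun x hx => ?_)
    by_cases h : x ∈ J
    · exact Subgroup.mem_sup_left (Subgroup.mem_sup_right (Subgroup.subset_closure h))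
    · exact Subgroup.mem_sup_right (Subgroup.mem_sup_right (Subgroup.subset_closure ⟨hx, h⟩))
  have hBfix : P.B.map β.toMonoidHom = P.B := by
    rw [← hB, Subgroup.map_equiv_normalizer_eq, hβ]
  have key : ∀ I : Set G, I ⊆ P.S → (∀ x ∈ P.S, ∀ y ∈ P.S, (x ∈ J ↔ y ∈ J) → (x ∈ I ↔ y ∈ I)) →
      (P.parabolic I).map β.toMonoidHom = P.parabolic I := fun I hI hc => by
    refine map_eq_of_le β ?_
    rw [Subgroup.map_le_iff_le_comap]
    refine sup_le (fun x hx => ?_) ((Subgroup.closure_le _).2 fun x hx => ?_)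
    · exact (BN.B_le_parabolic P I) (hBfix.le ⟨x, hx, rfl⟩)
    · obtain ⟨y, hy, hxy, he⟩ := hperm β hβ x (hI hx)
      have hyI : y ∈ I := (hc x (hI hx) y hy hxy).1 hx
      exact BN.parabolic_mono P (Set.singleton_subset_iff.2 hyI)
        (he.le ⟨x, Subgroup.mem_sup_right (Subgroup.subset_closure rfl), rfl⟩)
  exact ⟨key J hJ fun x _ y _ h => h, key _ Set.sdiff_subset fun x hx y hy h => by
    simp [Set.mem_sdiff, hx, hy, h]⟩

end BN

section Chevalley

variable {D : ChevalleyDatum} (C : Full D) {F : Type*} [Field F] [Fintype F]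

theorem exists_diag_perm (hD : D ∈ [chevG2, chevB2, chevD4, chevF4, chevE6, chevE7, chevE8])
    (θ : MulAut ↥(D.group F)) (hU : (C.aU F).map θ.toMonoidHom = C.aU F) :
    ∃ (φ : MulAut ↥(D.group F)) (π : Equiv.Perm (Fin D.rank)) (σ : Fin D.rank → F ≃+* F),
      C.IsStd φ π σ ∧ D.IsDiagramSymmetry π ∧ ∀ i, (C.aP i).map θ.toMonoidHom = C.aP (K := F) (π i) := by
  have hB : (C.aB F).map θ.toMonoidHom = C.aB F := by
    rw [← C.normalizer_aU, Subgroup.map_equiv_normalizer_eq, hU]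
  obtain ⟨ρ, hρ⟩ := C.exists_aP_perm θ hB
  obtain ⟨x, c, φ, π, σ, hφ, he⟩ := C.exists_std θ
  refine ⟨φ, π, σ, hφ, hφ.isDiagramSymmetry (chkBond_all hD), fun i => ?_⟩
  have hφU : (C.aU F).map φ.toMonoidHom = C.aU F := map_eq_of_le φ (hφ.map_aU_le (chkDesc_all hD)).1
  have htor : (C.aU F).map (C.torAut c : MulAut ↥(D.group F)).toMonoidHom = C.aU F := by
    refine map_eq_of_le _ ?_
    rw [C.aU_eq, MonoidHom.map_closure, Subgroup.closure_le]
    rintro _ ⟨_, ⟨r, t, hr, rfl⟩, rfl⟩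
    exact Subgroup.subset_closure ⟨r, _, hr, C.torAut_aX c r t⟩
  have hx : x ∈ C.aB F := by
    rw [← C.normalizer_aU, Subgroup.mem_normalizer_iff]
    intro y
    constructor
    · intro hy
      rw [← hU, he]
      obtain ⟨z, hz, rfl⟩ := htor.ge hy
      obtain ⟨w, hw, rfl⟩ := hφU.ge hz
      exact ⟨w, hw, rfl⟩
    · intro hy
      rw [← hU, he] at hy
      obtain ⟨w, hw, hwe⟩ := hy
      change x * C.torAut c (φ w) * x⁻¹ = x * y * x⁻¹ at hwe
      rw [← mul_left_cancel (mul_right_cancel hwe)]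
      exact htor.le ⟨_, hφU.le ⟨w, hw, rfl⟩, rfl⟩
  suffices h : ρ i = π i by rw [hρ i, h]
  have h1 : θ (C.aX (C.G.negr (C.G.simp' i)) 1) ∈ C.aP (K := F) (ρ i) :=
    (hρ i).le ⟨_, C.aX_negr_mem_aP i 1, rfl⟩
  rw [he] at h1
  change x * C.torAut c (φ (C.aX (C.G.negr (C.G.simp' i)) 1)) * x⁻¹ ∈ C.aP (ρ i) at h1
  rw [(hφ i 1).2, map_one, C.torAut_aX] at h1
  have h2 := mul_mem (mul_mem (inv_mem (C.aP_ge (ρ i) hx)) h1) (C.aP_ge (ρ i) hx)
  rw [show ∀ y : ↥(D.group F), x⁻¹ * (x * y * x⁻¹) * x = y from fun y => by group] at h2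
  have h3 : ∀ u : F, C.aX (K := F) (C.G.negr (C.G.simp' (π i))) u ∈ C.aP (K := F) (ρ i) →
      C.aX (K := F) (C.G.negr (C.G.simp' (π i))) u ∈ C.aXs (K := F) (C.G.negr (C.G.simp' (ρ i))) := fun u hu =>
    (C.aP_inf_aV (K := F) (ρ i)).le (Subgroup.mem_inf.2 ⟨hu, C.aX_mem_aV (K := F) (C.G.negr_simp_not_pos (π i)) u⟩)
  obtain ⟨t, ht⟩ := h3 _ h2
  have h4 := C.G.xu_eq_xu (congrArg Subtype.val ht.symm) (by simp)
  exact (C.G.simp_injective (by simpa [C.G.negr_negr] using congrArg C.G.negr h4)).symm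

variable (p : ℕ) [Fact p.Prime] [CharP F p]

include C

/-- a node set fixed by the allowed permutations gives the split pattern -/
theorem split_chev_of (hD : D ∈ [chevG2, chevB2, chevD4, chevF4, chevE6, chevE7, chevE8])
    (f : Fin D.rank → Bool) {i j : Fin D.rank} (hi : f i = true) (hj : f j = false)
    (hf : ∀ (φ : MulAut ↥(D.group F)) (π : Equiv.Perm (Fin D.rank)) (σ : Fin D.rank → F ≃+* F),
      C.IsStd φ π σ → D.IsDiagramSymmetry π → ∀ k, f (π k) = f k) :
    Split p ↥(D.group F) := by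
  obtain ⟨S, hS⟩ := C.exists_sylow (F := F) p
  have hSU : (S : Subgroup ↥(D.group F)) = C.aU F := hS
  refine ⟨S, ?_⟩
  rw [hSU]
  refine splitAt_bn (P := C.bnPair (K := F)) C.normalizer_aU (J := C.sG '' {k | f k = true})
    (by rintro _ ⟨k, -, rfl⟩; exact ⟨k, rfl⟩) ⟨i, hi, rfl⟩ ⟨j, rfl⟩ ?_ fun β hβ x hx => ?_
  · rintro ⟨k, hk, e⟩
    rw [Set.mem_ofPred_eq, C.sG_injective e, hj] at hk
    exact Bool.false_ne_true hk
  obtain ⟨k, rfl⟩ := hx
  obtain ⟨φ, π, σ, hφ, hπ, hP⟩ := exists_diag_perm C hD β hβ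
  refine ⟨C.sG (π k), ⟨_, rfl⟩, ?_, hP k⟩
  simp only [C.sG_injective.mem_set_image, Set.mem_ofPred_eq, hf φ π σ hφ hπ k]

/-- the node set from the symmetries of the diagram -/
theorem split_chev (hD : D ∈ [chevG2, chevB2, chevD4, chevF4, chevE6, chevE7, chevE8])
    (f : Fin D.rank → Bool) {i j : Fin D.rank} (hi : f i = true) (hj : f j = false)
    (hchk : ∀ l ∈ symLists D D.rank, ∀ k : Fin D.rank,
      ∀ h : l.getD k.val 0 < D.rank, f ⟨l.getD k.val 0, h⟩ = f k) : Split p ↥(D.group F) :=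
  split_chev_of C p hD f hi hj fun _ π _ _ hπ k => by
    have hl := hchk _ (permList_mem hπ) k
    have e : (permList π).getD k.val 0 = (π k).val := by
      simp [permList, List.getD_eq_getElem?_getD]
    have h := hl (e.symm ▸ (π k).isLt)
    rwa [show (⟨(permList π).getD k.val 0, e.symm ▸ (π k).isLt⟩ : Fin D.rank) = π k from Fin.ext e] at h

theorem two_chev (hr : D.rank = 2) : Two p ↥(D.group F) := by
  obtain ⟨S, hS⟩ := C.exists_sylow (F := F) p
  have hSU : (S : Subgroup ↥(D.group F)) = C.aU F := hS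
  refine ⟨S, ?_⟩
  rw [hSU]
  refine twoAt_bn (P := C.bnPair (K := F)) C.normalizer_aU (a := C.sG ⟨0, by omega⟩) (b := C.sG ⟨1, by omega⟩)
    (fun h => by simpa using congrArg Fin.val (C.sG_injective h)) ?_
  ext x
  simp only [Set.mem_insert_iff, Set.mem_singleton_iff]
  constructor
  · rintro ⟨k, rfl⟩
    have := k.isLt
    rcases (show k.val = 0 ∨ k.val = 1 by omega) with h | h
    · exact Or.inl (congrArg C.sG (Fin.ext h))
    · exact Or.inr (congrArg C.sG (Fin.ext h))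
  · rintro (rfl | rfl) <;> exact ⟨_, rfl⟩

end Chevalley

section Exceptional

variable {F : Type*} [Field F] [Fintype F] (p : ℕ) [Fact p.Prime] [CharP F p]

/-- the nodes with one neighbour -/
def leafB (D : ChevalleyDatum) (k : Fin D.rank) : Bool :=
  ((List.range D.rank).filter fun j => j != k.val && D.bonds k.val j != 0).length == 1

theorem leaf_checks : ∀ D ∈ [chevD4, chevF4, chevE6, chevE7, chevE8],
    (∃ i : Fin D.rank, leafB D i = true) ∧ (∃ j : Fin D.rank, leafB D j = false) ∧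
    ∀ l ∈ symLists D D.rank, ∀ k : Fin D.rank, ∀ h : l.getD k.val 0 < D.rank, leafB D ⟨l.getD k.val 0, h⟩ = leafB D k := by
  intro D hD
  simp only [List.mem_cons, List.not_mem_nil, or_false] at hD
  rcases hD with rfl | rfl | rfl | rfl | rfl <;> decide +kernel

theorem split_simply {D : ChevalleyDatum} (C : Full D) (hD : D ∈ [chevD4, chevF4, chevE6, chevE7, chevE8]) :
    Split p ↥(D.group F) := by
  obtain ⟨⟨i, hi⟩, ⟨j, hj⟩, h⟩ := leaf_checks D hD
  exact split_chev C p (by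
    simp only [List.mem_cons, List.not_mem_nil, or_false] at hD ⊢
    tauto) (leafB D) hi hj h

theorem cart_g2 : chevG2.cartan 0 (chevG2.simple 1) = -1 ∧ chevG2.cartan 1 (chevG2.simple 0) = -3 ∨
    chevG2.cartan 0 (chevG2.simple 1) = -3 ∧ chevG2.cartan 1 (chevG2.simple 0) = -1 := by decide +kernel

/-- outside characteristic three the graph of `G₂` has no symmetry -/
theorem split_g2 (C : Full chevG2) (h3 : 3 ≤ Fintype.card F) (hp : p ≠ 3) : Split p ↥(chevG2.group F) := by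
  have hr : chevG2.rank = 2 := rfl
  refine split_chev_of C p (by simp) (fun k => k.val == 0) (i := ⟨0, by decide⟩) (j := ⟨1, by decide⟩) rfl rfl
    fun φ π σ hφ _ k => ?_
  suffices hπ : π = 1 by rw [hπ]; rfl
  by_contra hne
  obtain ⟨a, ha⟩ : ∃ a : Fin chevG2.rank, a.val = 0 := ⟨⟨0, by decide⟩, rfl⟩
  obtain ⟨b, hb⟩ : ∃ b : Fin chevG2.rank, b.val = 1 := ⟨⟨1, by decide⟩, rfl⟩
  have hcases : ∀ k : Fin chevG2.rank, k = a ∨ k = b := fun k => by
    have := k.isLt
    rcases (show k.val = 0 ∨ k.val = 1 by omega) with h | h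
    · exact Or.inl (Fin.ext (h.trans ha.symm))
    · exact Or.inr (Fin.ext (h.trans hb.symm))
  have hab : a ≠ b := fun e => by rw [e, hb] at ha; omega
  have hπab : π a = b ∧ π b = a := by
    rcases hcases (π a) with e | e <;> rcases hcases (π b) with e' | e'
    · exact absurd (π.injective (e.trans e'.symm)) hab
    · exact absurd (Equiv.ext fun k => by rcases hcases k with rfl | rfl <;> simp [e, e']) hne
    · exact ⟨e, e'⟩
    · exact absurd (π.injective (e.trans e'.symm)) hab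
  have key : ∀ i j : Fin chevG2.rank, π i = j → π j = i → cart chevG2 i (C.G.simp' j) = -1 →
      cart chevG2 j (C.G.simp' i) = -3 → False := by
    intro i j hij hji h1 h2
    have hpow : ∀ t : F, σ j t = σ i t ^ 3 := fun t => by
      rcases eq_or_ne t 0 with rfl | ht
      · simp
      · have h := hφ.rel i j (Units.mk0 t ht)
        rw [hij, hji, h1, h2, Units.val_mk0, zpow_neg_one, map_inv₀, zpow_neg, inv_inj] at h
        exact_mod_cast h
    have hadd : ∀ x : F, (x + 1) ^ 3 = x ^ 3 + 1 := fun x => by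
      obtain ⟨y, rfl⟩ := (σ i).surjective x
      rw [← map_one (σ i), ← map_add, ← hpow, ← hpow, map_add, map_one, map_one]
    obtain ⟨x, hx0, hx1⟩ : ∃ x : F, x ≠ 0 ∧ x ≠ -1 := by
      classical
      by_contra hcon
      push Not at hcon
      have hsub : (Finset.univ : Finset F) ⊆ {0, -1} := fun x _ => by
        simp only [Finset.mem_insert, Finset.mem_singleton]
        exact or_iff_not_imp_left.2 (hcon x)
      have := (Finset.card_le_card hsub).trans Finset.card_le_two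
      rw [Finset.card_univ] at this
      omega
    have h30 : (3 : F) * (x * (x + 1)) = 0 := by linear_combination hadd x
    have h3F : ((3 : ℕ) : F) = 0 := by
      exact_mod_cast (mul_eq_zero.1 h30).resolve_right (mul_ne_zero hx0 fun e => hx1 (eq_neg_of_add_eq_zero_left e))
    exact hp ((Nat.prime_dvd_prime_iff_eq Fact.out Nat.prime_three).1 ((CharP.cast_eq_zero_iff F p 3).1 h3F))
  have hd := cart_g2
  have hcart : ∀ i j : Fin chevG2.rank, cart chevG2 i (C.G.simp' j) = chevG2.cartan i.val (chevG2.simple j.val) :=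
    fun i j => by rw [cart, C.G.simp_val]
  rcases hd with ⟨h1, h2⟩ | ⟨h1, h2⟩
  · exact key a b hπab.1 hπab.2 (by rw [hcart, ha, hb, h1]) (by rw [hcart, ha, hb, h2])
  · exact key b a hπab.2 hπab.1 (by rw [hcart, ha, hb, h2]) (by rw [hcart, ha, hb, h1])

end Exceptional

section Twisted

variable {D : ChevalleyDatum} {K : Type*} [Field K] [Fintype K] {C : Full D} {T : Twist C.G K} {ι : Type}
  {O : Orbits C.G T.p ι} {Γ : Subgroup (GL D.Idx K)} (P : TwGp O Γ) (p : ℕ) [Fact p.Prime] [CharP K p]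

include P

/-- a twisted group all whose opposite orbit subgroups are fixed by the normalised automorphisms -/
theorem split_twisted (k₀ k₁ : ι) (hne : k₀ ≠ k₁)
    (hfix : ∀ ψ : MulAut ↥Γ, P.gU.map ψ.toMonoidHom = P.gU → P.gV.map ψ.toMonoidHom = P.gV →
      ∀ k, (P.oY k).map ψ.toMonoidHom = P.oY k) : Split p ↥Γ := by
  classical
  haveI : Finite (GL D.Idx K) := inferInstance
  obtain ⟨S, hS⟩ := P.exists_sylow p
  refine ⟨S, ?_⟩
  rw [hS]
  refine splitAt_bn (P := P.bnPair) (by rw [P.normalizer_gU, P.bnPair_B]) (J := {P.sGp k₀})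
    (Set.singleton_subset_iff.2 ⟨k₀, rfl⟩) rfl ⟨k₁, rfl⟩ (fun e => hne (P.sGp_injective e).symm)
    fun β hβ x hx => ?_
  obtain ⟨k, rfl⟩ := hx
  refine ⟨_, ⟨k, rfl⟩, Iff.rfl, ?_⟩
  obtain ⟨g, hgU, hgV⟩ := P.exists_opposite β
  have hg : g ∈ P.gB := by
    rw [← P.normalizer_gU, Subgroup.mem_normalizer_iff]
    intro y
    constructor
    · intro hy
      rw [← hgU]
      obtain ⟨z, hz, rfl⟩ := hβ.ge hy
      exact ⟨z, hz, rfl⟩
    · intro hy
      rw [← hgU] at hy
      obtain ⟨z, hz, he⟩ := hy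
      change g * β z * g⁻¹ = g * y * g⁻¹ at he
      exact mul_left_cancel (mul_right_cancel he) ▸ hβ.le ⟨z, hz, rfl⟩
  obtain ⟨j, hj⟩ := P.exists_oP_image _ (P.map_gB_of_gU hgU) k
  have hYk : P.oY k ≤ P.oP j := fun y hy => by
    obtain ⟨z, hz, rfl⟩ := (hfix _ hgU hgV k).ge hy
    exact hj.le ⟨z, P.oY_le_oP k hz, rfl⟩
  have hjk : j = k := by
    by_contra hjk
    have hinf : P.oP j ⊓ P.oP k = P.gB := by
      by_contra hne'
      exact hjk (P.oP_injective (le_antisymm
        ((P.oP_minimal (le_inf (P.gB_le_oP j) (P.gB_le_oP k)) inf_le_left hne').ge.trans inf_le_right)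
        ((P.oP_minimal (le_inf (P.gB_le_oP j) (P.gB_le_oP k)) inf_le_right hne').ge.trans inf_le_left)))
    obtain ⟨x, hx, hx1⟩ := P.X_ne k
    have hxX : (⟨x, P.toPre.X_le k hx⟩ : ↥Γ) ∈ P.oX k := hx
    have hy : P.sGp k * ⟨x, P.toPre.X_le k hx⟩ * (P.sGp k)⁻¹ ∈ P.oY k := ⟨_, hxX, rfl⟩
    have hbot : P.sGp k * ⟨x, P.toPre.X_le k hx⟩ * (P.sGp k)⁻¹ ∈ P.gB ⊓ P.gV :=
      ⟨hinf.le ⟨hYk hy, P.oY_le_oP k hy⟩, P.oY_le_gV k hy⟩
    rw [P.gB_inf_gV, Subgroup.mem_bot, conj_eq_one_iff] at hbot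
    exact hx1 (congrArg Subtype.val hbot)
  subst hjk
  change (P.oP j).map β.toMonoidHom = P.oP j
  refine map_eq_of_le β ?_
  rintro _ ⟨y, hy, rfl⟩
  have h1 : g * β y * g⁻¹ ∈ P.oP j := hj.le ⟨y, hy, rfl⟩
  have h2 := mul_mem (mul_mem (inv_mem (P.gB_le_oP j hg)) h1) (P.gB_le_oP j hg)
  rwa [show g⁻¹ * (g * β y * g⁻¹) * g = β y by group] at h2

/-- a twisted group of rank one -/
theorem one_twisted (k₀ : ι) (hk : ∀ k, k = k₀) : One p ↥Γ := by
  haveI : Finite (GL D.Idx K) := inferInstance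
  obtain ⟨S, hS⟩ := P.exists_sylow p
  refine ⟨S, ?_⟩
  rw [hS]
  refine oneAt_bn (P := P.bnPair) (by rw [P.normalizer_gU, P.bnPair_B]) (s := P.sGp k₀) ?_
  ext x
  constructor
  · rintro ⟨k, rfl⟩
    rw [hk k]
    rfl
  · rintro rfl
    exact ⟨k₀, rfl⟩

end Twisted

section Suzuki

open CfsgLib.Lie.Suz

variable {F : Type*} [Field F] [Fintype F] {m : ℕ}

theorem one_suzuki (hm : 1 ≤ m) (hF : Fintype.card F = 2 ^ (2 * m + 1)) : One 2 (Cfsg.Sz F m) := by
  haveI : Fact (Nat.Prime 2) := ⟨Nat.prime_two⟩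
  have hS := isSuzField hF
  haveI : Finite (Cfsg.Sz F m) := inferInstance
  refine ⟨(U_isPGroup hF).toSylow (U_index_not_dvd hm hF), ?_⟩
  show OneAt (U hF : Subgroup (Cfsg.Sz F m))
  obtain ⟨St, hSt⟩ : ∃ St, St = MulAction.stabilizer (Cfsg.Sz F m) (suzukiPointInfinity F) := ⟨_, rfl⟩
  have hN : Subgroup.normalizer (U hF : Set (Cfsg.Sz F m)) = St := by
    rw [hSt]
    refine le_antisymm (fun g hg => mem_stab_of_normalizes hm hF fun u hu => ?_) fun g hg => ?_
    · exact (Subgroup.mem_normalizer_iff''.1 hg u).1 hu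
    · refine Subgroup.mem_normalizer_iff''.2 fun u => ⟨fun h => normalizes_of_mem_stab hm hF hg h, fun h => ?_⟩
      have := normalizes_of_mem_stab hm hF (inv_mem hg) h
      simpa [mul_assoc] using this
  have htr : ∀ g : Cfsg.Sz F m, g ∉ St → ∃ x y, g • suzukiPointInfinity F = pt m x y := fun g hg => by
    rcases (ovoid_iff ((g : SL(4, F)) • suzukiPointInfinity F)).1 (smul_mem_ovoid g.2 ovoid_inf) with h | h
    · exact absurd (hSt ▸ h : g ∈ St) hg
    · exact h
  refine ⟨hN ▸ fun h => ?_, fun H hH hne => ?_⟩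
  · have h1 : WS hF ∈ St := h ▸ Subgroup.mem_top _
    rw [hSt, MulAction.mem_stabilizer_iff] at h1
    exact inf_ne_zero (h1.symm.trans (W_inf (F := F)))
  · rw [hN] at hH ⊢
    refine le_antisymm (fun g hg => ?_) hH
    by_contra hgS
    refine hne (eq_top_iff.2 fun h _ => ?_)
    by_cases hhS : h ∈ St
    · exact hH hhS
    obtain ⟨x, y, hxy⟩ := htr g hgS
    obtain ⟨x', y', hxy'⟩ := htr h hhS
    obtain ⟨u, hu⟩ : ∃ u, u = TS hF (x' - x) (y' - y - th m (x' - x) * x) := ⟨_, rfl⟩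
    have huU : u ∈ U hF := hu ▸ TS_mem_U hF _ _
    have he : u • g • suzukiPointInfinity F = h • suzukiPointInfinity F := by
      have hTS : ∀ a b x y, TS hF a b • pt m x y = pt m (x + a) (y + th m a * x + b) :=
        fun a b x y => T_pt hS a b x y
      rw [hxy, hxy', hu, hTS]
      congr 1 <;> ring
    have hb : h⁻¹ * u * g ∈ St := by
      rw [hSt, MulAction.mem_stabilizer_iff, mul_smul, mul_smul, he, inv_smul_smul]
    have hUle : U hF ≤ St := hN ▸ Subgroup.le_normalizer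
    have h1 := mul_mem (mul_mem (hH (hUle huU)) hg) (inv_mem (hH hb))
    rwa [show u * g * (h⁻¹ * u * g)⁻¹ = h by group] at h1

end Suzuki

end CfsgLib.Lie.PMin
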