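import Cfsg.Agent.Lib.Lie.PMin.Polar
import Cfsg.Agent.Lib.Lie.PMin.Chev
import Cfsg.Agent.Lib.Lie.CentralAut.ClassicalInst
import Cfsg.Agent.Lib.Lie.Chev.Nat.Iso
import Cfsg.Agent.Lib.Classical.ExcIsoFive
import Cfsg.Agent.Lib.Classical.OddOrthEven
import Cfsg.Agent.Lib.Classical.PSpSimple
import Cfsg.Agent.Lib.Sp.Aut
import Cfsg.Agent.Lib.SU.Classify
import Cfsg.Agent.Lib.SU.Aut
import Cfsg.Agent.Lib.Orth.Aut.StdForms

/-!
# The patterns in symplectic, unitary and orthogonal groups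
-/

set_option autoImplicit false
set_option linter.unusedSectionVars false

namespace CfsgLib.Lie.PMin

open Module Matrix Cfsg CfsgLib.Char.PolarSteinberg CfsgLib.Lie.CentralAut
open scoped Matrix

theorem conj_semi_mulVec {ι F : Type*} [Fintype ι] [DecidableEq ι] [Field F] (G : GL ι F) (σ : F ≃+* F)
    (A : Matrix ι ι F) (v : ι → F) :
    (G.1 * A.map σ * (G⁻¹).1) *ᵥ (G.1 *ᵥ fun i => σ (v i)) = G.1 *ᵥ fun i => σ ((A *ᵥ v) i) := by
  rw [Matrix.mulVec_mulVec, mul_assoc, ← Units.val_mul, inv_mul_cancel, Units.val_one, mul_one,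
    ← Matrix.mulVec_mulVec]
  congr 1
  exact funext fun i => (RingHom.map_mulVec (σ : F →+* F) A v i).symm

theorem semi_injective {ι F : Type*} [Fintype ι] [DecidableEq ι] [Field F] (G : GL ι F) (σ : F ≃+* F) :
    Function.Injective fun v : ι → F => G.1 *ᵥ fun i => σ (v i) := by
  intro u v h
  have h1 := congrArg ((G⁻¹).1 *ᵥ ·) h
  simp only [Matrix.mulVec_mulVec, ← Units.val_mul, inv_mul_cancel, Units.val_one, Matrix.one_mulVec] at h1
  exact funext fun i => σ.injective (congrFun h1 i)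

theorem semi_linear {ι F : Type*} [Fintype ι] [DecidableEq ι] [Field F] (G : GL ι F) (σ : F ≃+* F) :
    (∀ u v : ι → F, (G.1 *ᵥ fun i => σ ((u + v) i)) = (G.1 *ᵥ fun i => σ (u i)) + G.1 *ᵥ fun i => σ (v i)) ∧
      ∀ (c : F) (v : ι → F), (G.1 *ᵥ fun i => σ ((c • v) i)) = σ c • (G.1 *ᵥ fun i => σ (v i)) := by
  refine ⟨fun u v => ?_, fun c v => ?_⟩
  · rw [← Matrix.mulVec_add]
    congr 1
    exact funext fun i => map_add σ (u i) (v i)
  · rw [← Matrix.mulVec_smul]
    congr 1
    exact funext fun i => map_mul σ c (v i)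

section Symplectic

open CfsgLib.Sp

theorem split_psp {F : Type*} [Field F] [Fintype F] {m : ℕ} (hm : 3 ≤ m) (p : ℕ) [Fact p.Prime] [CharP F p]
    [IsSimpleGroup (Cfsg.PSp m F)] : Split p (Cfsg.PSp m F) := by
  haveI : Finite (Matrix.symplecticGroup (Fin m) F) := Subtype.finite
  have hn : finrank F (Fin m ⊕ Fin m → F) = m + m := by
    rw [finrank_fintype_fun_eq_card, Fintype.card_sum, Fintype.card_fin]
  refine split_polar rich_sp Symp.isFrame_std (by omega) (by omega) (Or.inl (by omega))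
    (QuotientGroup.mk' _) (QuotientGroup.mk'_surjective _) (QuotientGroup.ker_mk' _).le p fun β => ?_
  obtain ⟨g, σ, hg⟩ := aut_classify (p := p) (by omega : 2 ≤ m) (fun h => by omega) β
  obtain ⟨k, hk⟩ := mem_gsp_iff.1 g.2
  refine ⟨σ, fun v => g.1.1 *ᵥ fun i => σ (v i), semi_injective g.1 σ, (semi_linear g.1 σ).1, (semi_linear g.1 σ).2,
    fun v _ => trivial, fun u v h => ?_, fun A => ⟨spConj g (spField σ A), ?_, fun v => ?_⟩⟩
  · show sf _ _ = 0
    rw [hk, sf_map, show sf u v = 0 from h, map_zero, mul_zero]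
  · rw [hg]
    rfl
  · exact conj_semi_mulVec g.1 σ A.1 v

theorem two_psp {F : Type*} [Field F] [Fintype F] (h3 : 3 ≤ Fintype.card F) (p : ℕ) [Fact p.Prime] [CharP F p] :
    Two p (Cfsg.PSp 2 F) := by
  have hex : ∃ a : F, a ≠ 0 ∧ a ≠ 1 := by
    classical
    by_contra hcon
    push Not at hcon
    have hsub : (Finset.univ : Finset F) ⊆ {0, 1} := fun x _ => by
      simp only [Finset.mem_insert, Finset.mem_singleton]
      exact or_iff_not_imp_left.2 (hcon x)
    have := (Finset.card_le_card hsub).trans Finset.card_le_two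
    rw [Finset.card_univ] at this
    omega
  obtain ⟨e⟩ := CfsgLib.Lie.NatRep.b2_iso F hex
  have he : Nonempty (Cfsg.PSp 2 F ≃* Cfsg.POmega F (Cfsg.quadFormOdd 2 F)) := by
    by_cases hodd : Odd (Fintype.card F)
    · exact (CfsgLib.Classical.ExcIsoFive.omega_five hodd).map MulEquiv.symm
    haveI : CharP F 2 := by
      have h2 : ringChar F = 2 := by
        by_contra hne
        exact hodd (Nat.odd_iff.2 (FiniteField.odd_card_of_char_ne_two hne))
      exact h2 ▸ ringChar.charP F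
    obtain ⟨ψ⟩ : Nonempty (Cfsg.isometryGroup F (Cfsg.quadFormOdd 2 F) ≃* Matrix.symplecticGroup (Fin 2) F) :=
      ⟨MulEquiv.ofBijective CfsgLib.Classical.OddOrthEven.redHom
        ⟨CfsgLib.Classical.OddOrthEven.redHom_injective, CfsgLib.Classical.OddOrthEven.redHom_surjective⟩⟩
    have htop : Cfsg.Omega F (Cfsg.quadFormOdd 2 F) = ⊤ := by
      refine Subgroup.map_injective (f := ψ.toMonoidHom) ψ.injective ?_
      rw [Cfsg.Omega, map_commutator_eq, MonoidHom.range_eq_top.2 ψ.surjective,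
        Subgroup.map_top_of_surjective _ ψ.surjective]
      exact CfsgLib.Classical.commutator_symplectic (Or.inr (Or.inl ⟨rfl, h3⟩))
    have φ : ↥(Cfsg.Omega F (Cfsg.quadFormOdd 2 F)) ≃* Matrix.symplecticGroup (Fin 2) F :=
      ((MulEquiv.subgroupCongr htop).trans Subgroup.topEquiv).trans ψ
    refine ⟨QuotientGroup.congr (Subgroup.center _) (Subgroup.center _) φ.symm ?_⟩
    ext x
    simp only [Subgroup.mem_map, Subgroup.mem_center_iff]
    constructor
    · rintro ⟨y, hy, rfl⟩ g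
      obtain ⟨g', rfl⟩ := φ.symm.surjective g
      show φ.symm g' * φ.symm y = φ.symm y * φ.symm g'
      rw [← map_mul, hy, map_mul]
    · intro hx
      refine ⟨φ x, fun g => ?_, φ.symm_apply_apply x⟩
      obtain ⟨g', rfl⟩ := φ.surjective g
      rw [← map_mul, hx, map_mul]
  obtain ⟨e'⟩ := he
  haveI : Finite ↥(Cfsg.Lie.chevB2.group F) := inferInstance
  exact (two_chev (CfsgLib.Lie.Chev.fullOf (D := Cfsg.Lie.chevB2) (by simp)) p rfl).of_equiv (e'.trans e.symm)

end Symplectic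

section Unitary

open CfsgLib.SU CfsgLib.Classical

theorem split_psu {F : Type*} [Field F] [Fintype F] {q n : ℕ} (C : UCtx F q) (hn : 4 ≤ n)
    (hF : Fintype.card F = q ^ 2) (p : ℕ) [Fact p.Prime] [CharP F p] [IsSimpleGroup (Cfsg.PSU n F q)] :
    Split p (Cfsg.PSU n F q) := by
  obtain ⟨e, f, hef⟩ := Unitary.exists_frame C (n := n) hF
  have hd : finrank F (Fin n → F) = n := Module.finrank_fin_fun F
  obtain ⟨y, hy⟩ : ∃ y : F, C.bar y ≠ y := by
    by_contra h
    push Not at h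
    have h1 : C.bar = 1 := RingEquiv.ext h
    simpa [h1] using C.order_two
  have hbb : ∀ x : F, C.bar (C.bar x) = x := fun x => by
    have h := DFunLike.congr_fun (pow_orderOf_eq_one C.bar) x
    rwa [C.order_two] at h
  refine split_polar (rich_su C hF) hef (by omega) (by omega)
    (Or.inr ⟨y - C.bar y, sub_ne_zero.2 (Ne.symm hy), fun x z hx hz hxz => ?_⟩)
    (QuotientGroup.mk' _) (QuotientGroup.mk'_surjective _) (QuotientGroup.ker_mk' _).le p fun β => ?_
  · have h1 : C.form z x = 1 := hxz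
    have h2 : C.form x z = 1 := by rw [← C.bar_form, h1, map_one]
    have hx' : C.form x x = 0 := hx
    have hz' : C.form z z = 0 := hz
    show C.form _ _ = 0
    simp only [C.form_add_left, C.form_add_right, C.form_smul_left, C.form_smul_right, h1, h2, hx', hz', mul_zero,
      mul_one, add_zero, zero_add, map_sub, hbb]
    ring
  obtain ⟨g, σ, hg⟩ := aut_classify C (by omega : 3 ≤ n) (fun h => by omega) β
  have hbar : ∀ x, C.bar (σ x) = σ (C.bar x) := fun x => by rw [C.bar_eq, C.bar_eq, map_pow]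
  have hform : ∀ u v : Fin n → F, C.form (g.1.1 *ᵥ fun i => σ (u i)) (g.1.1 *ᵥ fun i => σ (v i)) = σ (C.form u v) :=
    fun u v => by
      rw [(gu_mem_iff C).1 g.2]
      simp [UCtx.form, map_sum, hbar]
  refine ⟨σ, fun v => g.1.1 *ᵥ fun i => σ (v i), semi_injective g.1 σ, (semi_linear g.1 σ).1, (semi_linear g.1 σ).2,
    fun v h => ?_, fun u v h => ?_, fun A => ⟨suConj g (C.suField σ A), ?_, fun v => ?_⟩⟩
  · show C.form _ _ = 0
    rw [hform, show C.form v v = 0 from h, map_zero]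
  · show C.form _ _ = 0
    rw [hform, show C.form v u = 0 from h, map_zero]
  · rw [hg]
    rfl
  · exact conj_semi_mulVec g.1 σ A.1.1 v

theorem one_psu {F : Type*} [Field F] [Fintype F] {q : ℕ} (C : UCtx F q) (hF : Fintype.card F = q ^ 2) (p : ℕ)
    [Fact p.Prime] [CharP F p] [IsSimpleGroup (Cfsg.PSU 3 F q)] : One p (Cfsg.PSU 3 F q) := by
  obtain ⟨e, f, hef⟩ := Unitary.exists_frame C (n := 3) hF
  exact one_polar (rich_su C hF) hef rfl (Module.finrank_fin_fun F)
    (QuotientGroup.mk' _) (QuotientGroup.mk'_surjective _) (QuotientGroup.ker_mk' _).le p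

end Unitary

section Orthogonal

open CfsgLib.Orth

theorem split_pomega {F : Type*} [Field F] [Fintype F] {ι : Type} [Fintype ι] [DecidableEq ι]
    (Q : QuadraticForm F (ι → F)) (hQ : (QuadraticMap.polarBilin Q).Nondegenerate)
    (hQ' : Cfsg.Geo.IsNondegenerateQuadraticForm ⇑Q) (hn : 7 ≤ Fintype.card ι)
    (hT : Orth.Aut.NotTriality ⇑Q) {r : ℕ} {e f : Fin r → ι → F} (hef : (Orthog.pol Q hQ).IsFrame e f) (hr : 2 ≤ r)
    (p : ℕ) [Fact p.Prime] [CharP F p] [IsSimpleGroup (Cfsg.POmega F ⇑Q)] : Split p (Cfsg.POmega F ⇑Q) := by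
  have hd : finrank F (ι → F) = Fintype.card ι := finrank_fintype_fun_eq_card F
  refine split_polar (rich_omega Q hQ (by omega)) hef hr (by omega) (Or.inl (by omega))
    (QuotientGroup.mk' _) (QuotientGroup.mk'_surjective _) (QuotientGroup.ker_mk' _).le p fun β => ?_
  obtain ⟨g, σ, h, hg⟩ := Orth.Aut.exists_ind hQ' hn hT β
  obtain ⟨c, hc⟩ := id h
  refine ⟨σ, semi g σ, semi_injective g σ, semi_add g σ, (semi_linear g σ).2, fun v hv => ?_,
    fun u v huv => ?_, fun A => ⟨omegaAut h A, ?_, fun v => ?_⟩⟩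
  · show Q _ = 0
    rw [semi, hc, show Q v = 0 from hv, map_zero, mul_zero]
  · show QuadraticMap.polar Q _ _ = 0
    have h0 : QuadraticMap.polar Q u v = 0 := huv
    simp only [QuadraticMap.polar, ← semi_add] at h0 ⊢
    simp only [semi, hc]
    rw [← mul_sub, ← mul_sub, ← map_sub, ← map_sub, h0, map_zero, mul_zero]
  · rw [hg]
    rfl
  · show ((omegaAut h A).1.1 : Matrix ι ι F) *ᵥ semi g σ v = semi g σ ((A.1.1 : Matrix ι ι F) *ᵥ v)
    rw [omegaAut_val]
    exact semiConj_semi g σ A.1.1 v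

end Orthogonal

end CfsgLib.Lie.PMin
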