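import Cfsg.Prelude.Def_LocalEven
import Mathlib.GroupTheory.Sylow
import Mathlib.GroupTheory.Nilpotent
import Mathlib.Algebra.Group.Subgroup.Pointwise
import Mathlib.GroupTheory.Subgroup.Simple

/-!
# Groups with a simple normal subgroup and a Sylow subgroup in a unique maximal subgroup

Three patterns for the overgroups of a Sylow subgroup `U` of the simple group, invariant under the
automorphisms fixing `U`, and what they force on the group above.
-/

set_option autoImplicit false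

namespace CfsgLib.Lie.PMin

section Patterns

variable {K : Type*} [Group K]

/-- the normalizer of `U` is proper, and is the only proper subgroup containing it -/
def OneAt (U : Subgroup K) : Prop :=
  Subgroup.normalizer (U : Set K) ≠ ⊤ ∧
    ∀ H : Subgroup K, Subgroup.normalizer (U : Set K) ≤ H → H ≠ ⊤ → H = Subgroup.normalizer (U : Set K)

/-- two proper overgroups generating everything, fixed by every automorphism fixing `U` -/
def SplitAt (U : Subgroup K) : Prop :=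
  ∃ R₁ R₂ : Subgroup K, U ≤ R₁ ∧ U ≤ R₂ ∧ R₁ ≠ ⊤ ∧ R₂ ≠ ⊤ ∧ R₁ ⊔ R₂ = ⊤ ∧
    ∀ β : MulAut K, U.map β.toMonoidHom = U → R₁.map β.toMonoidHom = R₁ ∧ R₂.map β.toMonoidHom = R₂

/-- exactly two proper subgroups properly containing the normalizer of `U` -/
def TwoAt (U : Subgroup K) : Prop :=
  ∃ R₁ R₂ : Subgroup K, Subgroup.normalizer (U : Set K) ≤ R₁ ∧ Subgroup.normalizer (U : Set K) ≤ R₂ ∧
    R₁ ≠ ⊤ ∧ R₂ ≠ ⊤ ∧ R₁ ⊔ R₂ = ⊤ ∧
    ∀ H : Subgroup K, Subgroup.normalizer (U : Set K) ≤ H → H ≠ ⊤ →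
      H = Subgroup.normalizer (U : Set K) ∨ H = R₁ ∨ H = R₂

variable {L : Type*} [Group L]

theorem map_symm_eq (e : K ≃* L) {A : Subgroup K} {B : Subgroup L} (h : A.map e.toMonoidHom = B) :
    B.map e.symm.toMonoidHom = A := by
  subst h
  rw [Subgroup.map_map]
  conv_rhs => rw [← Subgroup.map_id A]
  congr 1
  ext x; simp

theorem map_map_symm (e : K ≃* L) (B : Subgroup L) : (B.map e.symm.toMonoidHom).map e.toMonoidHom = B :=
  map_symm_eq e.symm rfl

theorem map_ne_top (e : K ≃* L) {R : Subgroup K} (h : R ≠ ⊤) : R.map e.toMonoidHom ≠ ⊤ := fun h1 =>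
  h (by rw [← map_symm_eq e h1]; exact Subgroup.map_top_of_surjective _ e.symm.surjective)

theorem OneAt.map {U : Subgroup K} (h : OneAt U) (e : K ≃* L) : OneAt (U.map e.toMonoidHom) := by
  have hN : (Subgroup.normalizer (U : Set K)).map e.toMonoidHom =
      Subgroup.normalizer (U.map e.toMonoidHom : Set L) := Subgroup.map_equiv_normalizer_eq U e
  refine ⟨hN ▸ map_ne_top e h.1, fun H hH hne => ?_⟩
  have h1 : Subgroup.normalizer (U : Set K) ≤ H.map e.symm.toMonoidHom := by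
    rw [← map_symm_eq e hN]
    exact Subgroup.map_mono hH
  rw [← hN, ← h.2 _ h1 (map_ne_top e.symm hne), map_map_symm]

theorem TwoAt.map {U : Subgroup K} (h : TwoAt U) (e : K ≃* L) : TwoAt (U.map e.toMonoidHom) := by
  obtain ⟨R₁, R₂, a1, a2, b1, b2, hj, hall⟩ := h
  have hN : (Subgroup.normalizer (U : Set K)).map e.toMonoidHom =
      Subgroup.normalizer (U.map e.toMonoidHom : Set L) := Subgroup.map_equiv_normalizer_eq U e
  refine ⟨R₁.map e.toMonoidHom, R₂.map e.toMonoidHom, hN ▸ Subgroup.map_mono a1, hN ▸ Subgroup.map_mono a2,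
    map_ne_top e b1, map_ne_top e b2, ?_, fun H hH hne => ?_⟩
  · rw [← Subgroup.map_sup, hj]
    exact Subgroup.map_top_of_surjective _ e.surjective
  have h1 : Subgroup.normalizer (U : Set K) ≤ H.map e.symm.toMonoidHom := by
    rw [← map_symm_eq e hN]
    exact Subgroup.map_mono hH
  rcases hall _ h1 (map_ne_top e.symm hne) with h2 | h2 | h2
  · exact Or.inl (by rw [← hN, ← h2, map_map_symm])
  · exact Or.inr (Or.inl (by rw [← h2, map_map_symm]))
  · exact Or.inr (Or.inr (by rw [← h2, map_map_symm]))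

theorem SplitAt.map {U : Subgroup K} (h : SplitAt U) (e : K ≃* L) : SplitAt (U.map e.toMonoidHom) := by
  obtain ⟨R₁, R₂, a1, a2, b1, b2, hj, hall⟩ := h
  refine ⟨R₁.map e.toMonoidHom, R₂.map e.toMonoidHom, Subgroup.map_mono a1, Subgroup.map_mono a2,
    map_ne_top e b1, map_ne_top e b2, ?_, fun β hβ => ?_⟩
  · rw [← Subgroup.map_sup, hj]
    exact Subgroup.map_top_of_surjective _ e.surjective
  obtain ⟨γ, hγ⟩ : ∃ γ : MulAut K, γ = (e.trans β).trans e.symm := ⟨_, rfl⟩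
  have hconj : ∀ R : Subgroup K, (R.map γ.toMonoidHom).map e.toMonoidHom = (R.map e.toMonoidHom).map β.toMonoidHom := by
    intro R
    rw [Subgroup.map_map, Subgroup.map_map]
    congr 1
    ext x; simp [hγ]
  have hU : U.map γ.toMonoidHom = U := Subgroup.map_injective (f := e.toMonoidHom) e.injective
    ((hconj U).trans hβ)
  obtain ⟨c1, c2⟩ := hall γ hU
  exact ⟨by rw [← hconj, c1], by rw [← hconj, c2]⟩

/-- the first pattern at the Sylow subgroups -/
def One (p : ℕ) (K : Type*) [Group K] : Prop := ∃ U : Sylow p K, OneAt (U : Subgroup K)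

/-- the second pattern at the Sylow subgroups -/
def Split (p : ℕ) (K : Type*) [Group K] : Prop := ∃ U : Sylow p K, SplitAt (U : Subgroup K)

/-- the third pattern at the Sylow subgroups -/
def Two (p : ℕ) (K : Type*) [Group K] : Prop := ∃ U : Sylow p K, TwoAt (U : Subgroup K)

variable {p : ℕ}

theorem exists_map_sylow [Finite K] [Fact p.Prime] (U₀ : Sylow p K) (e : K ≃* L) [Finite L] (U : Sylow p L) :
    ∃ f : K ≃* L, (U₀ : Subgroup K).map f.toMonoidHom = U := by
  obtain ⟨c, hc⟩ := MulAction.exists_smul_eq L (U₀.mapSurjective (f := e.toMonoidHom) e.surjective) U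
  refine ⟨e.trans (MulAut.conj c), ?_⟩
  rw [← hc, Sylow.coe_subgroup_smul, Subgroup.pointwise_smul_def]
  exact (Subgroup.map_map (U₀ : Subgroup K) (MulAut.conj c).toMonoidHom e.toMonoidHom).symm

theorem One.at [Finite K] [Fact p.Prime] (h : One p K) [Finite L] (e : L ≃* K) (U : Sylow p L) :
    OneAt (U : Subgroup L) := by
  obtain ⟨U₀, h⟩ := h
  obtain ⟨f, hf⟩ := exists_map_sylow U₀ e.symm U
  exact hf ▸ h.map f

theorem Split.at [Finite K] [Fact p.Prime] (h : Split p K) [Finite L] (e : L ≃* K) (U : Sylow p L) :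
    SplitAt (U : Subgroup L) := by
  obtain ⟨U₀, h⟩ := h
  obtain ⟨f, hf⟩ := exists_map_sylow U₀ e.symm U
  exact hf ▸ h.map f

theorem Two.at [Finite K] [Fact p.Prime] (h : Two p K) [Finite L] (e : L ≃* K) (U : Sylow p L) :
    TwoAt (U : Subgroup L) := by
  obtain ⟨U₀, h⟩ := h
  obtain ⟨f, hf⟩ := exists_map_sylow U₀ e.symm U
  exact hf ▸ h.map f

theorem One.of_equiv [Finite K] [Fact p.Prime] (h : One p K) [Finite L] (e : L ≃* K) : One p L := by
  obtain ⟨U⟩ : Nonempty (Sylow p L) := inferInstance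
  exact ⟨U, h.at e U⟩

theorem Split.of_equiv [Finite K] [Fact p.Prime] (h : Split p K) [Finite L] (e : L ≃* K) : Split p L := by
  obtain ⟨U⟩ : Nonempty (Sylow p L) := inferInstance
  exact ⟨U, h.at e U⟩

theorem Two.of_equiv [Finite K] [Fact p.Prime] (h : Two p K) [Finite L] (e : L ≃* K) : Two p L := by
  obtain ⟨U⟩ : Nonempty (Sylow p L) := inferInstance
  exact ⟨U, h.at e U⟩

end Patterns

section Tools

variable {K : Type*} [Group K]

theorem map_eq_of_le [Finite K] {R : Subgroup K} (β : MulAut K) (h : R.map β.toMonoidHom ≤ R) :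
    R.map β.toMonoidHom = R :=
  Subgroup.eq_of_le_of_card_ge h
    (Nat.card_congr (Subgroup.equivMapOfInjective R β.toMonoidHom β.injective).toEquiv).le

/-- between `B` and `R` there is nothing when `U ≤ B` is transitive on the other cosets of `B` in `R` -/
theorem eq_or_eq_of_trans {U B R M : Subgroup K} (hUB : U ≤ B) (hBM : B ≤ M) (hMR : M ≤ R)
    (htr : ∀ g ∈ R, g ∉ B → ∀ h ∈ R, h ∉ B → ∃ u ∈ U, h⁻¹ * u * g ∈ B) : M = B ∨ M = R := by
  by_cases hg : ∃ g ∈ M, g ∉ B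
  · obtain ⟨g, hgM, hgB⟩ := hg
    refine Or.inr (le_antisymm hMR fun h hh => ?_)
    by_cases hhB : h ∈ B
    · exact hBM hhB
    obtain ⟨u, hu, hb⟩ := htr g (hMR hgM) hgB h hh hhB
    have h1 := mul_mem (mul_mem (hBM (hUB hu)) hgM) (inv_mem (hBM hb))
    rwa [show u * g * (h⁻¹ * u * g)⁻¹ = h by group] at h1
  · push Not at hg
    exact Or.inl (le_antisymm hg hBM)

open scoped Pointwise

variable [Finite K] {X : Type*} [Group X] {p : ℕ} [Fact p.Prime]

/-- a point that is the only one fixed by a subgroup of the preimage of `U` is fixed by the whole preimage -/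
theorem fix_of_unique {Ω : Type*} [MulAction X Ω] (π : X →* K) (hπ : Function.Surjective π) {U : Subgroup K} (hU : IsPGroup p ↥U) (Z₀ : Subgroup X)
    (hZ₀ : Z₀.map π ≤ U) (w : Ω) (hw : ∀ z ∈ Z₀, z • w = w) (hker : ∀ k ∈ π.ker, k • w = w)
    (huniq : ∀ y : X, π y ∈ U → (∀ z ∈ Z₀, z • y • w = y • w) → y • w = w) :
    ∀ y : X, π y ∈ U → y • w = w := by
  obtain ⟨Y, hY⟩ : ∃ Y, Y = U.comap π := ⟨_, rfl⟩
  obtain ⟨Z, hZ⟩ : ∃ Z, Z = Y ⊓ MulAction.stabilizer X w := ⟨_, rfl⟩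
  have hZ₀Z : Z₀ ≤ Z := hZ ▸ le_inf (hY ▸ Subgroup.map_le_iff_le_comap.1 hZ₀) hw
  intro y hy
  by_contra hne
  haveI := hU.isNilpotent
  obtain ⟨Z', hZ'⟩ : ∃ Z', Z' = (Z.map π).subgroupOf U := ⟨_, rfl⟩
  have hlt : Z' < ⊤ := lt_top_iff_ne_top.2 fun h => hne (by
    have h1 : (⟨π y, hy⟩ : ↥U) ∈ Z' := h ▸ Subgroup.mem_top _
    rw [hZ', Subgroup.mem_subgroupOf] at h1
    obtain ⟨z, hz, hze⟩ := h1
    have hk : z⁻¹ * y ∈ π.ker := by
      rw [MonoidHom.mem_ker, map_mul, map_inv, show π z = π y from hze, inv_mul_cancel]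
    rw [show y = z * (z⁻¹ * y) by group, mul_smul, hker _ hk]
    exact (hZ ▸ hz : z ∈ Y ⊓ MulAction.stabilizer X w).2)
  obtain ⟨u, hu, huZ⟩ := SetLike.exists_of_lt (Group.normalizerCondition_of_isNilpotent Z' hlt)
  refine huZ ?_
  rw [hZ', Subgroup.mem_subgroupOf]
  obtain ⟨x, hx⟩ := hπ (u : K)
  have hxU : π x ∈ U := hx ▸ u.2
  refine ⟨x, hZ ▸ ⟨hY ▸ hxU, huniq x hxU fun z hz => ?_⟩, hx⟩
  have h1 : x⁻¹ * z * x ∈ Z := by
    have h2 : (⟨π z, hZ₀ ⟨z, hz, rfl⟩⟩ : ↥U) ∈ Z' := by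
      rw [hZ', Subgroup.mem_subgroupOf]
      exact ⟨z, hZ₀Z hz, rfl⟩
    have h3 := (Subgroup.mem_normalizer_iff''.1 hu _).1 h2
    rw [hZ', Subgroup.mem_subgroupOf] at h3
    obtain ⟨z', hz', he⟩ := h3
    have hk : z'⁻¹ * (x⁻¹ * z * x) ∈ π.ker := by
      rw [MonoidHom.mem_ker, map_mul, map_inv, map_mul, map_mul, map_inv, hx]
      exact inv_mul_eq_one.2 he
    rw [show x⁻¹ * z * x = z' * (z'⁻¹ * (x⁻¹ * z * x)) by group]
    refine mul_mem hz' (hZ ▸ ⟨?_, hker _ hk⟩)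
    rw [hY]
    show π _ ∈ U
    rw [MonoidHom.mem_ker.1 hk]
    exact one_mem _
  calc z • x • w = x • (x⁻¹ * z * x) • w := by simp [← mul_smul, mul_assoc]
    _ = x • w := by rw [show (x⁻¹ * z * x) • w = w from (hZ ▸ h1 : _ ∈ Y ⊓ MulAction.stabilizer X w).2]

omit [Finite K] in
/-- the image of a stabiliser under an automorphism lifted to the points -/
theorem map_stab {Ω : Type*} [MulAction X Ω] (π : X →* K) (β : MulAut K) (Φ : Ω → Ω)
    (hΦ : ∀ g, ∃ g', π g' = β (π g) ∧ ∀ w, g' • Φ w = Φ (g • w)) (w : Ω) :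
    ((MulAction.stabilizer X w).map π).map β.toMonoidHom ≤ (MulAction.stabilizer X (Φ w)).map π := by
  rintro _ ⟨_, ⟨g, hg, rfl⟩, rfl⟩
  obtain ⟨g', hg', hsm⟩ := hΦ g
  exact ⟨g', (hsm w).trans (by rw [show g • w = w from hg]), hg'⟩

omit [Finite K] in
/-- the image of a fixed point is fixed -/
theorem fix_image {Ω : Type*} [MulAction X Ω] (π : X →* K) (hπ : Function.Surjective π) (β : MulAut K) (Φ : Ω → Ω)
    (hΦ : ∀ g, ∃ g', π g' = β (π g) ∧ ∀ w, g' • Φ w = Φ (g • w)) {U : Subgroup K} (hU : U.map β.toMonoidHom = U)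
    (w : Ω) (hker : ∀ k ∈ π.ker, k • Φ w = Φ w) (hw : ∀ y, π y ∈ U → y • w = w) :
    ∀ y, π y ∈ U → y • Φ w = Φ w := by
  intro y hy
  rw [← hU] at hy
  obtain ⟨u, hu, he⟩ := hy
  obtain ⟨g, rfl⟩ := hπ u
  obtain ⟨g', hg', hsm⟩ := hΦ g
  have hk : g'⁻¹ * y ∈ π.ker := by
    rw [MonoidHom.mem_ker, map_mul, map_inv, hg']
    exact inv_mul_eq_one.2 he
  rw [show y = g' * (g'⁻¹ * y) by group, mul_smul, hker _ hk, hsm, hw g hu]

end Tools

section Main

open scoped Pointwise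

variable {X : Type*} [Group X] [Finite X] {p : ℕ} [Fact p.Prime]

theorem concl (hX : Cfsg.IsPMinimal p X) (K : Subgroup X) [hKn : K.Normal] [IsSimpleGroup ↥K] (U : Sylow p ↥K)
    (h : OneAt (U : Subgroup ↥K) ∨ SplitAt (U : Subgroup ↥K) ∨ TwoAt (U : Subgroup ↥K)) :
    IsCoatom (Subgroup.normalizer (((U : Subgroup ↥K).map K.subtype : Subgroup X) : Set X)) ∧
      ¬ SplitAt (U : Subgroup ↥K) ∧ (OneAt (U : Subgroup ↥K) ∨ (TwoAt (U : Subgroup ↥K) ∧ p = 2 ∧ K ≠ ⊤)) := by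
  obtain ⟨U', hU'⟩ : ∃ U' : Subgroup X, U' = (U : Subgroup ↥K).map K.subtype := ⟨_, rfl⟩
  rw [← hU']
  obtain ⟨N, hN⟩ : ∃ N, N = Subgroup.normalizer (U' : Set X) := ⟨_, rfl⟩
  rw [← hN]
  have hsub : ∀ x : ↥K, x ∈ (U : Subgroup ↥K) ↔ (x : X) ∈ U' := fun x => by
    rw [hU']
    exact (Subgroup.mem_map_iff_mem K.subtype_injective).symm
  -- the normalizer of `U` is not everything
  have hUne : Subgroup.normalizer ((U : Subgroup ↥K) : Set ↥K) ≠ ⊤ := by
    intro htop
    rcases h with h | ⟨R₁, R₂, a1, a2, b1, b2, hj, hall⟩ | ⟨R₁, R₂, a1, -, b1, -⟩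
    · exact h.1 htop
    · rcases (Subgroup.normalizer_eq_top_iff.1 htop).eq_bot_or_eq_top with e | e
      · have hfix : ∀ g : ↥K, R₁.map (MulAut.conj g).toMonoidHom = R₁ ∧ R₂.map (MulAut.conj g).toMonoidHom = R₂ :=
          fun g => hall _ (by rw [e, Subgroup.map_bot])
        have hn : ∀ R : Subgroup ↥K, (∀ g, R.map (MulAut.conj g).toMonoidHom = R) → R ≠ ⊤ → R = ⊥ := fun R hR hne => by
          have hRn : R.Normal := ⟨fun x hx g => (hR g).le ⟨x, hx, rfl⟩⟩
          exact hRn.eq_bot_or_eq_top.resolve_right hne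
        rw [hn R₁ (fun g => (hfix g).1) b1, hn R₂ (fun g => (hfix g).2) b2, bot_sup_eq] at hj
        exact bot_ne_top hj
      · exact b1 (top_le_iff.1 (e ▸ a1))
    · exact b1 (top_le_iff.1 (htop ▸ a1))
  have hNne : N ≠ ⊤ := by
    intro htop
    refine hUne (eq_top_iff.2 fun g _ => Subgroup.mem_normalizer_iff.2 fun x => ?_)
    have hg : (g : X) ∈ Subgroup.normalizer (U' : Set X) := hN ▸ htop ▸ Subgroup.mem_top _
    rw [hsub, hsub]
    exact Subgroup.mem_normalizer_iff.1 hg x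
  obtain ⟨S, hS⟩ := ((U.isPGroup'.map K.subtype).to_le hU'.le : IsPGroup p ↥U').exists_le_sylow
  have hSK : ∀ x : ↥K, (x : X) ∈ (S : Subgroup X) ↔ x ∈ (U : Subgroup ↥K) := by
    have e : (S : Subgroup X).subgroupOf K = (U : Subgroup ↥K) := by
      refine U.is_maximal' ?_ fun x hx => Subgroup.mem_subgroupOf.2 (hS ((hsub x).1 hx))
      exact S.isPGroup'.comap_of_injective _ K.subtype_injective
    exact fun x => by rw [← e, Subgroup.mem_subgroupOf]
  have hSN : (S : Subgroup X) ≤ N := by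
    intro s hs
    rw [hN, Subgroup.mem_normalizer_iff]
    intro x
    have key : ∀ y, y ∈ U' ↔ y ∈ (S : Subgroup X) ∧ y ∈ K := fun y => by
      constructor
      · intro hy
        rw [hU'] at hy
        obtain ⟨z, hz, rfl⟩ := hy
        exact ⟨hS (hU' ▸ ⟨z, hz, rfl⟩), z.2⟩
      · rintro ⟨h1, h2⟩
        exact (hsub ⟨y, h2⟩).1 ((hSK ⟨y, h2⟩).1 h1)
    rw [key, key]
    refine and_congr ?_ (Subgroup.mem_normalizer_iff.1 (by
      rw [Subgroup.normalizer_eq_top]; exact Subgroup.mem_top s) x)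
    exact Subgroup.mem_normalizer_iff.1 (Subgroup.le_normalizer hs) x
  obtain ⟨M, hM, huniq⟩ := (hX S).2
  have hle : ∀ R : Subgroup X, R ≠ ⊤ → (S : Subgroup X) ≤ R → R ≤ M := fun R hR hSR => by
    rcases eq_top_or_exists_le_coatom R with e | ⟨C, hC, hRC⟩
    · exact absurd e hR
    · exact (huniq C ⟨hC, hSR.trans hRC⟩) ▸ hRC
  have hNM : N ≤ M := hle N hNne hSN
  have hfr : N ⊔ K = ⊤ := by
    rw [hN, hU']
    exact Sylow.normalizer_sup_eq_top U
  obtain ⟨H, hH⟩ : ∃ H, H = M.subgroupOf K := ⟨_, rfl⟩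
  have hHne : H ≠ ⊤ := fun e => hM.1.1 (top_le_iff.1 (hfr.ge.trans (sup_le hNM
    (Subgroup.subgroupOf_eq_top.1 (hH ▸ e)))))
  have hBH : Subgroup.normalizer ((U : Subgroup ↥K) : Set ↥K) ≤ H := fun g hg => by
    rw [hH, Subgroup.mem_subgroupOf]
    refine hNM (hN ▸ Subgroup.mem_normalizer_iff.2 fun x => ?_)
    by_cases hx : x ∈ K
    · have := Subgroup.mem_normalizer_iff.1 hg ⟨x, hx⟩
      rw [hsub, hsub] at this
      exact this
    · have hle' : ∀ y ∈ U', y ∈ K := fun y hy => (hU' ▸ Subgroup.map_subtype_le (U : Subgroup ↥K) : U' ≤ K) hy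
      refine ⟨fun h1 => absurd (hle' _ h1) hx, fun h1 => absurd ?_ hx⟩
      simpa [mul_assoc] using mul_mem (mul_mem (K.inv_mem g.2) (hle' _ h1)) g.2
  -- the automorphisms induced by `S`
  have hUfix : ∀ s ∈ (S : Subgroup X), (U : Subgroup ↥K).map (MulAut.conjNormal s : MulAut ↥K).toMonoidHom = U := by
    intro s hs
    refine map_eq_of_le _ ?_
    rintro _ ⟨x, hx, rfl⟩
    exact (hsub _).2 ((Subgroup.mem_normalizer_iff.1 (hN.le (hSN hs)) _).1 ((hsub x).1 hx))
  have hHfix : ∀ s ∈ (S : Subgroup X), H.map (MulAut.conjNormal s : MulAut ↥K).toMonoidHom = H := by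
    intro s hs
    refine map_eq_of_le _ ?_
    rintro _ ⟨x, hx, rfl⟩
    have hx : (x : X) ∈ M := Subgroup.mem_subgroupOf.1 (hH.le hx)
    refine hH.ge (Subgroup.mem_subgroupOf.2 ?_)
    have hsM := hNM (hSN hs)
    exact mul_mem (mul_mem hsM hx) (inv_mem hsM)
  -- invariant overgroups of `U` lie below `H`
  have hinv : ∀ R : Subgroup ↥K, (U : Subgroup ↥K) ≤ R → R ≠ ⊤ →
      (∀ s ∈ (S : Subgroup X), R.map (MulAut.conjNormal s : MulAut ↥K).toMonoidHom = R) → R ≤ H := by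
    intro R hUR hRne hfix
    have hnorm : (S : Subgroup X) ≤ Subgroup.normalizer ((R.map K.subtype : Subgroup X) : Set X) := by
      intro s hs
      have h1 : ∀ t ∈ (S : Subgroup X), ∀ x ∈ R.map K.subtype, t * x * t⁻¹ ∈ R.map K.subtype := by
        rintro t ht _ ⟨x, hx, rfl⟩
        exact ⟨_, (hfix t ht).le ⟨x, hx, rfl⟩, rfl⟩
      exact Subgroup.mem_normalizer_iff.2 fun x => ⟨h1 s hs x, fun h => by
        simpa [mul_assoc] using h1 _ (inv_mem hs) _ h⟩
    have hne : (S : Subgroup X) ⊔ R.map K.subtype ≠ ⊤ := by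
      intro e
      refine hRne (eq_top_iff.2 fun k _ => ?_)
      obtain ⟨a, ha, b, hb, hab⟩ := (Set.mem_mul.1
        (show (k : X) ∈ ((S : Subgroup X) : Set X) * (R.map K.subtype : Set X) by
          rw [← Subgroup.coe_mul_of_left_le_normalizer_right _ _ hnorm, e]; trivial))
      obtain ⟨r, hr, rfl⟩ := hb
      have haK : a ∈ K := by
        rw [show a = (k : X) * (r : X)⁻¹ from eq_mul_inv_of_mul_eq hab]
        exact mul_mem k.2 (inv_mem r.2)
      rw [show k = ⟨a, haK⟩ * r from Subtype.ext hab.symm]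
      exact mul_mem (hUR ((hSK _).1 ha)) hr
    intro r hr
    rw [hH, Subgroup.mem_subgroupOf]
    exact hle _ hne le_sup_left (Subgroup.mem_sup_right ⟨r, hr, rfl⟩)
  -- if `H` is the normalizer, so is `M`
  have hfin : H = Subgroup.normalizer ((U : Subgroup ↥K) : Set ↥K) → IsCoatom N := by
    intro e
    suffices hMN : M ≤ N from (le_antisymm hNM hMN).symm ▸ hM.1
    intro m hm
    have hmap : (U : Subgroup ↥K).map (MulAut.conjNormal m : MulAut ↥K).toMonoidHom = U := by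
      have hle1 : (U : Subgroup ↥K).map (MulAut.conjNormal m : MulAut ↥K).toMonoidHom ≤
          Subgroup.normalizer ((U : Subgroup ↥K) : Set ↥K) := by
        rintro _ ⟨x, hx, rfl⟩
        rw [← e, hH, Subgroup.mem_subgroupOf]
        have hxM : (x : X) ∈ M := hNM (hSN ((hSK x).2 hx))
        exact mul_mem (mul_mem hm hxM) (inv_mem hm)
      refine map_eq_of_le _ ?_
      have hp : IsPGroup p ↥((U : Subgroup ↥K).map (MulAut.conjNormal m : MulAut ↥K).toMonoidHom) := U.isPGroup'.map _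
      intro x hx
      exact ((hp.inf_normalizer_sylow U).le ⟨hx, hle1 hx⟩).2
    rw [hN, Subgroup.mem_normalizer_iff]
    intro x
    have hK' : ∀ y ∈ U', y ∈ K := fun y hy => (hU' ▸ Subgroup.map_subtype_le (U : Subgroup ↥K) : U' ≤ K) hy
    constructor
    · intro hx
      exact (hsub (MulAut.conjNormal m ⟨x, hK' x hx⟩)).1
        (hmap.le ⟨⟨x, hK' x hx⟩, (hsub ⟨x, hK' x hx⟩).2 hx, rfl⟩)
    · intro hx
      obtain ⟨z, hz, hze⟩ := hmap.ge ((hsub ⟨_, hK' _ hx⟩).2 hx)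
      have : x = z := by simpa [mul_assoc] using (congrArg (fun w : ↥K => m⁻¹ * (w : X) * m) hze).symm
      exact this ▸ (hsub z).1 hz
  have hns : ¬ SplitAt (U : Subgroup ↥K) := fun ⟨R₁, R₂, a1, a2, b1, b2, hj, hall⟩ =>
    hHne (top_le_iff.1 (hj.ge.trans (sup_le (hinv R₁ a1 b1 fun s hs => (hall _ (hUfix s hs)).1)
      (hinv R₂ a2 b2 fun s hs => (hall _ (hUfix s hs)).2))))
  rcases h with h | h | h
  · exact ⟨hfin (h.2 H hBH hHne), hns, Or.inl h⟩
  · exact absurd h hns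
  obtain ⟨R₁, R₂, a1, a2, b1, b2, hj, hall⟩ := id h
  obtain ⟨B, hB⟩ : ∃ B, B = Subgroup.normalizer ((U : Subgroup ↥K) : Set ↥K) := ⟨_, rfl⟩
  rw [← hB] at a1 a2 hall hBH hfin
  have hUB : (U : Subgroup ↥K) ≤ B := hB ▸ Subgroup.le_normalizer
  have himg : ∀ s ∈ (S : Subgroup X), ∀ R, (R = R₁ ∨ R = R₂) →
      R.map (MulAut.conjNormal s : MulAut ↥K).toMonoidHom = R₁ ∨
        R.map (MulAut.conjNormal s : MulAut ↥K).toMonoidHom = R₂ := by
    intro s hs R hR
    have hBs : B.map (MulAut.conjNormal s : MulAut ↥K).toMonoidHom = B := by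
      rw [hB, Subgroup.map_equiv_normalizer_eq, hUfix s hs]
    have hle1 : B ≤ R.map (MulAut.conjNormal s : MulAut ↥K).toMonoidHom := by
      rw [← hBs]
      rcases hR with rfl | rfl
      exacts [Subgroup.map_mono a1, Subgroup.map_mono a2]
    have hne1 : R.map (MulAut.conjNormal s : MulAut ↥K).toMonoidHom ≠ ⊤ :=
      map_ne_top _ (by rcases hR with rfl | rfl <;> assumption)
    rcases hall _ hle1 hne1 with e | e | e
    · exfalso
      have e2 : R = B := Subgroup.map_injective (f := (MulAut.conjNormal s : MulAut ↥K).toMonoidHom)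
        (MulEquiv.injective _) (e.trans hBs.symm)
      rcases hR with rfl | rfl
      · exact b2 (top_le_iff.1 (hj.ge.trans (sup_le (e2.le.trans a2) le_rfl)))
      · exact b1 (top_le_iff.1 (hj.ge.trans (sup_le le_rfl (e2.le.trans a1))))
    · exact Or.inl e
    · exact Or.inr e
  have hR12 : R₁ ≠ R₂ := fun e => b1 (by rw [e, sup_idem] at hj; rw [e, hj])
  obtain ⟨s, hs, hswap⟩ : ∃ s ∈ (S : Subgroup X), R₁.map (MulAut.conjNormal s : MulAut ↥K).toMonoidHom = R₂ := by
    by_contra hcon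
    push Not at hcon
    have f1 : ∀ s ∈ (S : Subgroup X), R₁.map (MulAut.conjNormal s : MulAut ↥K).toMonoidHom = R₁ := fun s hs =>
      (himg s hs R₁ (Or.inl rfl)).resolve_right (hcon s hs)
    have f2 : ∀ s ∈ (S : Subgroup X), R₂.map (MulAut.conjNormal s : MulAut ↥K).toMonoidHom = R₂ := fun s hs =>
      (himg s hs R₂ (Or.inr rfl)).resolve_left fun e => hR12 (Subgroup.map_injective
        (f := (MulAut.conjNormal s : MulAut ↥K).toMonoidHom) (MulEquiv.injective _) (e.trans (f1 s hs).symm)).symm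
    exact hHne (top_le_iff.1 (hj.ge.trans (sup_le (hinv R₁ (hUB.trans a1) b1 f1) (hinv R₂ (hUB.trans a2) b2 f2))))
  have hback : R₂.map (MulAut.conjNormal s : MulAut ↥K).toMonoidHom = R₁ :=
    (himg s hs R₂ (Or.inr rfl)).resolve_right fun e => hR12 (Subgroup.map_injective
      (f := (MulAut.conjNormal s : MulAut ↥K).toMonoidHom) (MulEquiv.injective _) (hswap.trans e.symm))
  have hHB : H = B := by
    rcases hall H hBH hHne with e | e | e
    · exact e
    · exact absurd ((e ▸ hHfix s hs).symm.trans hswap) hR12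
    · exact absurd ((e ▸ hHfix s hs).symm.trans hback).symm hR12
  refine ⟨hfin hHB, hns, Or.inr ⟨h, ?_, ?_⟩⟩
  · by_contra hp2
    have hpodd : Odd p := (Fact.out : p.Prime).odd_of_ne_two hp2
    obtain ⟨k, hk⟩ := S.isPGroup' ⟨s, hs⟩
    have hit : ∀ n : ℕ, R₁.map (MulAut.conjNormal (s ^ (2 * n + 1)) : MulAut ↥K).toMonoidHom = R₂ := by
      intro n
      induction n with
      | zero => rw [mul_zero, zero_add, pow_one]; exact hswap
      | succ n ih =>
        have e : ∀ (a b : X) (R : Subgroup ↥K), R.map (MulAut.conjNormal (a * b) : MulAut ↥K).toMonoidHom =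
            (R.map (MulAut.conjNormal b : MulAut ↥K).toMonoidHom).map
              (MulAut.conjNormal a : MulAut ↥K).toMonoidHom := fun a b R => by
          rw [Subgroup.map_map, map_mul]
          rfl
        rw [show 2 * (n + 1) + 1 = 1 + (1 + (2 * n + 1)) by ring, pow_add, pow_add, pow_one, e, e, ih, hback, hswap]
    obtain ⟨n, hn⟩ := hpodd.pow (n := k)
    have h2 := hit n
    rw [← hn, show s ^ p ^ k = 1 from congrArg Subtype.val hk, map_one] at h2
    exact hR12 ((Subgroup.map_id R₁).symm.trans h2)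
  · rintro rfl
    obtain ⟨x, hx⟩ : ∃ x : ↥(⊤ : Subgroup X), (x : X) = s := ⟨⟨s, trivial⟩, rfl⟩
    have hxU : x ∈ (U : Subgroup ↥(⊤ : Subgroup X)) := (hSK x).1 (hx ▸ hs)
    refine hR12 (Eq.trans ?_ hswap)
    have e : (MulAut.conjNormal s : MulAut ↥(⊤ : Subgroup X)) = MulAut.conj x :=
      MulEquiv.ext fun y => Subtype.ext (by simp [hx])
    rw [e]
    refine (map_eq_of_le _ ?_).symm
    rintro _ ⟨y, hy, rfl⟩
    exact mul_mem (mul_mem (a1 (hUB hxU)) hy) (inv_mem (a1 (hUB hxU)))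

end Main

end CfsgLib.Lie.PMin
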