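import Cfsg.Agent.Lib.Lie.PMin.LinearSplit
import Cfsg.Agent.Lib.Perm.Dickson.Minimal
import Cfsg.Agent.Lib.Classical.SLBasic

/-!
# Overgroups of Sylow subgroups in projective special linear groups
-/

set_option autoImplicit false

namespace CfsgLib.Lie.PMin

open Matrix CfsgLib.AutPSL CfsgLib.Lie.SylowOver Linear
open scoped Matrix

variable {F : Type} [Field F] [Fintype F] {p : ℕ} [Fact p.Prime] [CharP F p]

theorem smul_mem_cancel {n : ℕ} {W : Submodule F (Fin n → F)} {c : F} {v : Fin n → F} (hc : c ≠ 0)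
    (h : c • v ∈ W) : v ∈ W := by
  have := W.smul_mem c⁻¹ h
  rwa [inv_smul_smul₀ hc] at this

/-! ## Dimension two -/

theorem one_psl_two (hq : 4 ≤ Fintype.card F) : One p (Matrix.ProjectiveSpecialLinearGroup (Fin 2) F) := by
  haveI : IsSimpleGroup (Matrix.ProjectiveSpecialLinearGroup (Fin 2) F) :=
    (CfsgLib.Perm.Dickson.psl_simple_noncomm (F := F) (by rw [Nat.card_eq_fintype_card]; exact hq)).1
  refine ⟨sylowU, ?_, fun H hH hne => le_antisymm (fun x hx => ?_) hH⟩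
  · intro htop
    obtain ⟨g, hg⟩ : ∃ g, g = xe (1 : Fin 2) 0 (by decide) (1 : F) := ⟨_, rfl⟩
    have h : g ∈ upperSL (n := 2) (F := F) := (mem_normalizer_iff (p := p)).1 (htop ▸ Subgroup.mem_top _)
    have h1 := mem_upperSL.1 h (show id (0 : Fin 2) < id 1 by decide)
    rw [hg, xe_val] at h1
    simp at h1
  obtain ⟨g, rfl⟩ := QuotientGroup.mk'_surjective _ x
  refine (mem_normalizer_iff (p := p)).2 (mem_upperSL.2 fun i j hij => ?_)
  by_contra h0
  obtain ⟨rfl, rfl⟩ : i = 1 ∧ j = 0 := by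
    change j < i at hij
    rw [Fin.lt_def] at hij
    have hi2 := i.isLt
    exact ⟨Fin.ext (by simp; omega), Fin.ext (by simp; omega)⟩
  refine hne (eq_top_of_span le_rfl (Subgroup.le_normalizer.trans hH) fun k => ?_)
  have hv : g.1 *ᵥ ev 0 ∈ orbSpan H := comap_le_stab H hx _ (ev_zero_mem H)
  have he : g.1 1 0 • (ev 1 : Fin 2 → F) = g.1 *ᵥ ev 0 - g.1 0 0 • ev 0 := by
    funext l
    fin_cases l <;> simp [ev]
  have h1 : g.1 1 0 • (ev 1 : Fin 2 → F) ∈ orbSpan H := he ▸ sub_mem hv (Submodule.smul_mem _ _ (ev_zero_mem H))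
  fin_cases k
  · exact ev_zero_mem H
  · exact smul_mem_cancel h0 h1

/-! ## Dimension three -/

section Three

variable (F) in
/-- the stabiliser of a point -/
def RA : Subgroup (Matrix.ProjectiveSpecialLinearGroup (Fin 3) F) := (stabW (lvl (n := 3) (F := F) 1)).map proj

variable (F) in
/-- the stabiliser of a line -/
def RB : Subgroup (Matrix.ProjectiveSpecialLinearGroup (Fin 3) F) := (stabW (lvl (n := 3) (F := F) 2)).map proj

theorem mem_RA {g : Matrix.SpecialLinearGroup (Fin 3) F} : proj g ∈ RA F ↔ g.1 1 0 = 0 ∧ g.1 2 0 = 0 := by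
  rw [RA, mem_map_stabW, mem_stab_lvl]
  refine ⟨fun h => ⟨h 1 0 (by decide) (by decide), h 2 0 (by decide) (by decide)⟩, fun h i j hi hj => ?_⟩
  fin_cases i <;> fin_cases j <;> simp_all

theorem mem_RB {g : Matrix.SpecialLinearGroup (Fin 3) F} : proj g ∈ RB F ↔ g.1 2 0 = 0 ∧ g.1 2 1 = 0 := by
  rw [RB, mem_map_stabW, mem_stab_lvl]
  refine ⟨fun h => ⟨h 2 0 (by decide) (by decide), h 2 1 (by decide) (by decide)⟩, fun h i j hi hj => ?_⟩
  fin_cases i <;> fin_cases j <;> simp_all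

theorem mem_upper_three {g : Matrix.SpecialLinearGroup (Fin 3) F} :
    g ∈ upperSL (n := 3) (F := F) ↔ g.1 1 0 = 0 ∧ g.1 2 0 = 0 ∧ g.1 2 1 = 0 := by
  rw [mem_upperSL]
  refine ⟨fun h => ⟨h (show id (0 : Fin 3) < id 1 by decide), h (show id (0 : Fin 3) < id 2 by decide),
    h (show id (1 : Fin 3) < id 2 by decide)⟩, fun h i j hij => ?_⟩
  change j < i at hij
  fin_cases i <;> fin_cases j <;> simp_all

theorem two_psl_three : Two p (Matrix.ProjectiveSpecialLinearGroup (Fin 3) F) := by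
  haveI : IsSimpleGroup (Matrix.ProjectiveSpecialLinearGroup (Fin 3) F) :=
    CfsgLib.Classical.psl_isSimple le_rfl
  obtain ⟨B, hB⟩ : ∃ B, B = Subgroup.normalizer ((projU (n := 3) (F := F)) : Set
    (Matrix.ProjectiveSpecialLinearGroup (Fin 3) F)) := ⟨_, rfl⟩
  have hmemB : ∀ g, proj g ∈ B ↔ g.1 1 0 = 0 ∧ g.1 2 0 = 0 ∧ g.1 2 1 = 0 := fun g => by
    rw [hB, mem_normalizer_iff (p := p), mem_upper_three]
  have hBA : B ≤ RA F := fun x hx => by
    obtain ⟨g, rfl⟩ := QuotientGroup.mk'_surjective _ x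
    exact mem_RA.2 ⟨((hmemB g).1 hx).1, ((hmemB g).1 hx).2.1⟩
  have hBB : B ≤ RB F := fun x hx => by
    obtain ⟨g, rfl⟩ := QuotientGroup.mk'_surjective _ x
    exact mem_RB.2 ((hmemB g).1 hx).2
  have hUB : projU (n := 3) (F := F) ≤ B := hB ▸ Subgroup.le_normalizer
  obtain ⟨x10, h10⟩ : ∃ x, x = xe (1 : Fin 3) 0 (by decide) (1 : F) := ⟨_, rfl⟩
  obtain ⟨x21, h21⟩ : ∃ x, x = xe (2 : Fin 3) 1 (by decide) (1 : F) := ⟨_, rfl⟩
  have v10 : proj x10 ∈ RB F ∧ proj x10 ∉ RA F := by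
    rw [mem_RA, mem_RB, h10, xe_val]; simp
  have v21 : proj x21 ∈ RA F ∧ proj x21 ∉ RB F := by
    rw [mem_RA, mem_RB, h21, xe_val]; simp
  refine ⟨sylowU, RA F, RB F, hB ▸ hBA, hB ▸ hBB, fun h => v10.2 (h ▸ Subgroup.mem_top _),
    fun h => v21.2 (h ▸ Subgroup.mem_top _), ?_, fun H hH hne => ?_⟩
  · refine eq_top_of_span (by norm_num) ((hUB.trans hBA).trans le_sup_left) fun k => ?_
    have hs := comap_le_stab (RA F ⊔ RB F)
    have e1 : (ev 1 : Fin 3 → F) ∈ orbSpan (RA F ⊔ RB F) := by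
      have h := hs (show x10 ∈ (RA F ⊔ RB F).comap proj from Subgroup.mem_sup_right v10.1) _ (ev_zero_mem _)
      rw [h10, xe_mulVec, show (1 : F) * (ev 0 : Fin 3 → F) 0 = 1 by simp [ev], one_smul] at h
      simpa using sub_mem h (ev_zero_mem _)
    have e2 : (ev 2 : Fin 3 → F) ∈ orbSpan (RA F ⊔ RB F) := by
      have h := hs (show x21 ∈ (RA F ⊔ RB F).comap proj from Subgroup.mem_sup_left v21.1) _ e1
      rw [h21, xe_mulVec, show (1 : F) * (ev 1 : Fin 3 → F) 1 = 1 by simp [ev], one_smul] at h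
      simpa using sub_mem h e1
    fin_cases k
    exacts [ev_zero_mem _, e1, e2]
  rw [show ((sylowU (p := p) : Sylow p (Matrix.ProjectiveSpecialLinearGroup (Fin 3) F)) :
    Subgroup (Matrix.ProjectiveSpecialLinearGroup (Fin 3) F)) = projU from rfl, ← hB] at hH ⊢
  obtain ⟨W, hW⟩ : ∃ W, W = orbSpan H := ⟨_, rfl⟩
  have hstab : ∀ g ∈ H.comap proj, ∀ v ∈ W, g.1 *ᵥ v ∈ W := hW ▸ fun g hg v hv => comap_le_stab H hg v hv
  have he0 : (ev 0 : Fin 3 → F) ∈ W := hW ▸ ev_zero_mem H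
  have hW2 : ∀ v ∈ W, v 2 = 0 := by
    intro v hv
    by_contra h2
    refine hne (eq_top_of_span (by norm_num) (hUB.trans hH) fun k => ?_)
    rw [← hW]
    have e1 : (ev 1 : Fin 3 → F) ∈ W := by
      have h := hstab (xe (1 : Fin 3) 2 (by decide) 1)
        (hH (hUB ⟨_, xe_mem_unitri (by decide) 1, rfl⟩)) v hv
      rw [xe_mulVec, one_mul] at h
      exact smul_mem_cancel h2 (by simpa using sub_mem h hv)
    have e2 : v 2 • (ev 2 : Fin 3 → F) ∈ W := by
      have : v 2 • (ev 2 : Fin 3 → F) = v - v 0 • ev 0 - v 1 • ev 1 := by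
        funext l; fin_cases l <;> simp [ev]
      rw [this]
      exact sub_mem (sub_mem hv (W.smul_mem _ he0)) (W.smul_mem _ e1)
    fin_cases k
    exacts [he0, e1, smul_mem_cancel h2 e2]
  have hdetA : ∀ g : Matrix.SpecialLinearGroup (Fin 3) F, g.1 1 0 = 0 → g.1 2 0 = 0 →
      g.1 1 1 * g.1 2 2 - g.1 1 2 * g.1 2 1 ≠ 0 := by
    intro g a b h
    have := g.2
    rw [Matrix.det_fin_three, a, b] at this
    exact zero_ne_one (α := F) (by linear_combination this - g.1 0 0 * h)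
  have hdetB : ∀ g : Matrix.SpecialLinearGroup (Fin 3) F, g.1 2 0 = 0 → g.1 2 1 = 0 →
      g.1 0 0 * g.1 1 1 - g.1 0 1 * g.1 1 0 ≠ 0 := by
    intro g a b h
    have := g.2
    rw [Matrix.det_fin_three, a, b] at this
    exact zero_ne_one (α := F) (by linear_combination this - g.1 2 2 * h)
  by_cases hW1 : ∃ v ∈ W, v 1 ≠ 0
  · -- inside the line stabiliser
    obtain ⟨v, hv, h1⟩ := hW1
    have e1 : (ev 1 : Fin 3 → F) ∈ W := by
      have : v 1 • (ev 1 : Fin 3 → F) = v - v 0 • ev 0 := by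
        funext l; fin_cases l <;> simp [ev, hW2 v hv]
      exact smul_mem_cancel h1 (this ▸ sub_mem hv (W.smul_mem _ he0))
    have hle : H ≤ RB F := fun x hx => by
      obtain ⟨g, rfl⟩ := QuotientGroup.mk'_surjective _ x
      refine mem_RB.2 ⟨?_, ?_⟩
      · simpa [ev] using hW2 _ (hstab g hx _ he0)
      · simpa [ev] using hW2 _ (hstab g hx _ e1)
    refine (eq_or_eq_of_trans hUB hH hle ?_).imp id Or.inr
    intro x hx hxB y hy hyB
    obtain ⟨g, rfl⟩ := QuotientGroup.mk'_surjective _ x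
    obtain ⟨h, rfl⟩ := QuotientGroup.mk'_surjective _ y
    obtain ⟨g20, g21⟩ := mem_RB.1 hx
    obtain ⟨h20, h21'⟩ := mem_RB.1 hy
    have g10 : g.1 1 0 ≠ 0 := fun e => hxB ((hmemB g).2 ⟨e, g20, g21⟩)
    have k10 : h.1 1 0 ≠ 0 := fun e => hyB ((hmemB h).2 ⟨e, h20, h21'⟩)
    obtain ⟨t, ht⟩ : ∃ t, t = h.1 0 0 / h.1 1 0 - g.1 0 0 / g.1 1 0 := ⟨_, rfl⟩
    obtain ⟨u, hu⟩ : ∃ u, u = xe (0 : Fin 3) 1 (by decide) t := ⟨_, rfl⟩
    have huU : proj u ∈ projU (n := 3) (F := F) := hu ▸ ⟨_, xe_mem_unitri (by decide) t, rfl⟩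
    refine ⟨proj u, huU, ?_⟩
    rw [← map_inv, ← map_mul, ← map_mul]
    obtain ⟨m, hm⟩ : ∃ m, m = h⁻¹ * u * g := ⟨_, rfl⟩
    rw [← hm]
    obtain ⟨m20, m21⟩ : m.1 2 0 = 0 ∧ m.1 2 1 = 0 := by
      refine mem_RB.1 ?_
      rw [hm, map_mul, map_mul, map_inv]
      exact mul_mem (mul_mem (inv_mem hy) (hBB (hUB huU))) hx
    refine (hmemB m).2 ⟨?_, m20, m21⟩
    have hmul : h.1 * m.1 = u.1 * g.1 := by
      rw [← Matrix.SpecialLinearGroup.coe_mul, ← Matrix.SpecialLinearGroup.coe_mul, hm,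
        show h * (h⁻¹ * u * g) = u * g by group]
    have r0 := congrFun (congrFun hmul 0) 0
    have r1 := congrFun (congrFun hmul 1) 0
    rw [hu, xe_mul_apply, Matrix.mul_apply, Fin.sum_univ_three, m20] at r0 r1
    simp only [Fin.isValue, if_pos, show ((1 : Fin 3) = 0) = False by simp, if_false, mul_zero, add_zero] at r0 r1
    have ht' : h.1 0 0 * g.1 1 0 - h.1 1 0 * g.1 0 0 - t * g.1 1 0 * h.1 1 0 = 0 := by
      rw [ht]; field_simp; ring
    have key : (h.1 0 0 * h.1 1 1 - h.1 0 1 * h.1 1 0) * m.1 1 0 = 0 := by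
      linear_combination h.1 0 0 * r1 - h.1 1 0 * r0 + ht'
    exact (mul_eq_zero.1 key).resolve_left (hdetB h h20 h21')
  · -- inside the point stabiliser
    push Not at hW1
    have hle : H ≤ RA F := fun x hx => by
      obtain ⟨g, rfl⟩ := QuotientGroup.mk'_surjective _ x
      refine mem_RA.2 ⟨?_, ?_⟩
      · simpa [ev] using hW1 _ (hstab g hx _ he0)
      · simpa [ev] using hW2 _ (hstab g hx _ he0)
    refine (eq_or_eq_of_trans hUB hH hle ?_).imp id Or.inl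
    intro x hx hxB y hy hyB
    obtain ⟨g, rfl⟩ := QuotientGroup.mk'_surjective _ x
    obtain ⟨h, rfl⟩ := QuotientGroup.mk'_surjective _ y
    obtain ⟨g10, g20⟩ := mem_RA.1 hx
    obtain ⟨h10', h20⟩ := mem_RA.1 hy
    have g21 : g.1 2 1 ≠ 0 := fun e => hxB ((hmemB g).2 ⟨g10, g20, e⟩)
    have k21 : h.1 2 1 ≠ 0 := fun e => hyB ((hmemB h).2 ⟨h10', h20, e⟩)
    obtain ⟨t, ht⟩ : ∃ t, t = h.1 1 1 / h.1 2 1 - g.1 1 1 / g.1 2 1 := ⟨_, rfl⟩
    obtain ⟨u, hu⟩ : ∃ u, u = xe (1 : Fin 3) 2 (by decide) t := ⟨_, rfl⟩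
    have huU : proj u ∈ projU (n := 3) (F := F) := hu ▸ ⟨_, xe_mem_unitri (by decide) t, rfl⟩
    refine ⟨proj u, huU, ?_⟩
    rw [← map_inv, ← map_mul, ← map_mul]
    obtain ⟨m, hm⟩ : ∃ m, m = h⁻¹ * u * g := ⟨_, rfl⟩
    rw [← hm]
    obtain ⟨m10, m20⟩ : m.1 1 0 = 0 ∧ m.1 2 0 = 0 := by
      refine mem_RA.1 ?_
      rw [hm, map_mul, map_mul, map_inv]
      exact mul_mem (mul_mem (inv_mem hy) (hBA (hUB huU))) hx
    refine (hmemB m).2 ⟨m10, m20, ?_⟩
    have hmul : h.1 * m.1 = u.1 * g.1 := by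
      rw [← Matrix.SpecialLinearGroup.coe_mul, ← Matrix.SpecialLinearGroup.coe_mul, hm,
        show h * (h⁻¹ * u * g) = u * g by group]
    have r1 := congrFun (congrFun hmul 1) 1
    have r2 := congrFun (congrFun hmul 2) 1
    rw [hu, xe_mul_apply, Matrix.mul_apply, Fin.sum_univ_three] at r1 r2
    simp only [Fin.isValue, if_pos, show ((2 : Fin 3) = 1) = False by simp, if_false, h10', h20, zero_mul,
      zero_add, add_zero] at r1 r2
    have ht' : h.1 1 1 * g.1 2 1 - h.1 2 1 * g.1 1 1 - t * g.1 2 1 * h.1 2 1 = 0 := by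
      rw [ht]; field_simp; ring
    have key : (h.1 1 1 * h.1 2 2 - h.1 1 2 * h.1 2 1) * m.1 2 1 = 0 := by
      linear_combination h.1 1 1 * r2 - h.1 2 1 * r1 + ht'
    exact (mul_eq_zero.1 key).resolve_left (hdetA h h10' h20)

end Three

end CfsgLib.Lie.PMin
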