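import Cfsg.Agent.Lib.Lie.PMin.Core
import Cfsg.Agent.Lib.Lie.SylowOver.Linear

/-!
# The unitriangular Sylow subgroup of a projective special linear group: normalizer, flag stabilisers
-/

set_option autoImplicit false

namespace CfsgLib.Lie.PMin.Linear

open Matrix CfsgLib.AutPSL CfsgLib.Lie.SylowOver
open scoped Matrix

variable {F : Type*} [Field F] {n : ℕ}

/-- an elementary matrix -/
def xe (a b : Fin n) (h : a ≠ b) (t : F) : Matrix.SpecialLinearGroup (Fin n) F :=
  tv (t • (ev a : Fin n → F)) (ev b) (by rw [dotProduct_smul, ev_dot h, smul_zero])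

theorem xe_val (a b : Fin n) (h : a ≠ b) (t : F) : (xe a b h t).1 = 1 + t • Matrix.single a b 1 := by
  rw [xe, tv_val, rk1, smul_vecMulVec, vecMulVec_ev]

theorem xe_mem_unitri [Finite F] {a b : Fin n} (hab : a < b) (t : F) :
    xe a b hab.ne t ∈ unitri (n := n) (F := F) := tv_mem_unitri hab t

theorem xe_mulVec (a b : Fin n) (h : a ≠ b) (t : F) (x : Fin n → F) :
    (xe a b h t).1 *ᵥ x = x + (t * x b) • (ev a : Fin n → F) := by
  rw [xe, tv_mulVec']
  congr 1
  rw [show (ev b : Fin n → F) ⬝ᵥ x = x b by simp [ev], smul_smul, mul_comm]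

theorem xe_mul_apply (a b : Fin n) (h : a ≠ b) (t : F) (A : Matrix (Fin n) (Fin n) F) (i j : Fin n) :
    ((xe a b h t).1 * A) i j = A i j + if i = a then t * A b j else 0 := by
  rw [xe_val, add_mul, one_mul, Matrix.add_apply, Matrix.smul_mul, Matrix.smul_apply]
  congr 1
  by_cases hi : i = a
  · subst hi; simp
  · simp [hi]

theorem mul_xe_apply (a b : Fin n) (h : a ≠ b) (t : F) (A : Matrix (Fin n) (Fin n) F) (i j : Fin n) :
    (A * (xe a b h t).1) i j = A i j + if j = b then t * A i a else 0 := by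
  rw [xe_val, mul_add, mul_one, Matrix.add_apply, Matrix.mul_smul, Matrix.smul_apply]
  congr 1
  by_cases hj : j = b
  · subst hj; simp
  · simp [hj]

theorem xe_inv (a b : Fin n) (h : a ≠ b) (t : F) : (xe a b h t)⁻¹ = xe a b h (-t) := by
  refine inv_eq_of_mul_eq_one_right ?_
  rw [xe, xe, tv_mul']
  exact tv_eq_one _ (by rw [neg_smul, add_neg_cancel, zero_vecMulVec])

/-- a column and a row of a matrix are trivial, so it commutes with the elementary matrix -/
theorem comm_single {x : Matrix (Fin n) (Fin n) F} {a b : Fin n}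
    (hc : ∀ i, x i a = if i = a then 1 else 0) (hr : ∀ j, x b j = if j = b then 1 else 0) :
    x * Matrix.single a b (1 : F) = Matrix.single a b (1 : F) * x := by
  ext i j
  by_cases hi : i = a <;> by_cases hj : j = b
  · subst hi hj
    rw [Matrix.mul_single_apply_same, Matrix.single_mul_apply_same, hc, hr, if_pos rfl, if_pos rfl]
  · subst hi
    rw [Matrix.mul_single_apply_of_ne _ _ _ _ _ hj, Matrix.single_mul_apply_same, hr, if_neg hj, mul_zero]
  · subst hj
    rw [Matrix.mul_single_apply_same, Matrix.single_mul_apply_of_ne _ _ _ _ _ hi, hc, if_neg hi, zero_mul]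
  · rw [Matrix.mul_single_apply_of_ne _ _ _ _ _ hj, Matrix.single_mul_apply_of_ne _ _ _ _ _ hi]

variable [Finite F]

theorem unitri_proj_inj [NeZero n] {a b : Matrix.SpecialLinearGroup (Fin n) F} (ha : a ∈ unitri (n := n) (F := F))
    (hb : b ∈ unitri (n := n) (F := F)) (h : proj a = proj b) : a = b := by
  obtain ⟨c, -, hc⟩ := proj_eq_iff.1 h
  have h1 := congrFun (congrFun hc 0) 0
  rw [Matrix.smul_apply, (mem_unitri.1 ha).2, (mem_unitri.1 hb).2, smul_eq_mul, mul_one] at h1
  rw [← h1, one_smul] at hc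
  exact Subtype.ext hc.symm

theorem proj_xe_not_mem [NeZero n] {a b : Fin n} (hab : a < b) {t : F} (ht : t ≠ 0) :
    proj (xe b a hab.ne' t) ∉ projU (n := n) (F := F) := by
  rintro ⟨w, hw, e⟩
  obtain ⟨c, hcn, hc⟩ := proj_eq_iff.1 e
  have hw0 : w.1 b a = 0 := (mem_unitri.1 hw).1 (show id a < id b from hab)
  have h := congrFun (congrFun hc b) a
  rw [Matrix.smul_apply, hw0, smul_zero, xe_val] at h
  simp [hab.ne'] at h
  exact ht h

theorem diag_mul {A B : Matrix (Fin n) (Fin n) F} (hA : BlockTriangular A id) (hB : BlockTriangular B id) (i : Fin n) :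
    (A * B) i i = A i i * B i i := by
  rw [Matrix.mul_apply, Finset.sum_eq_single i]
  · intro j _ hj
    rcases lt_or_gt_of_ne hj with h | h
    · rw [hA (show id j < id i from h), zero_mul]
    · rw [hB (show id i < id j from h), mul_zero]
  · intro h; exact absurd (Finset.mem_univ i) h

/-- the triangular matrices -/
def upperSL : Subgroup (Matrix.SpecialLinearGroup (Fin n) F) :=
  let S : Submonoid (Matrix.SpecialLinearGroup (Fin n) F) :=
    { carrier := {A | BlockTriangular A.1 id}
      one_mem' := blockTriangular_one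
      mul_mem' := fun {A B} hA hB => by
        show BlockTriangular (A * B).1 id
        rw [Matrix.SpecialLinearGroup.coe_mul]
        exact hA.mul hB }
  { S with
    inv_mem' := fun {A} hA => by
      have h : (A⁻¹ : Matrix.SpecialLinearGroup (Fin n) F) = A ^ (orderOf A - 1) := by
        refine inv_eq_of_mul_eq_one_right ?_
        rw [← pow_succ', Nat.sub_add_cancel (orderOf_pos A), pow_orderOf_eq_one]
      rw [h]
      exact S.pow_mem hA _ }

theorem mem_upperSL {A : Matrix.SpecialLinearGroup (Fin n) F} : A ∈ upperSL ↔ BlockTriangular A.1 id := Iff.rfl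

theorem conj_unitri {g u : Matrix.SpecialLinearGroup (Fin n) F} (hg : g ∈ upperSL (n := n) (F := F))
    (hu : u ∈ unitri (n := n) (F := F)) : g * u * g⁻¹ ∈ unitri (n := n) (F := F) := by
  have hg' : BlockTriangular (g⁻¹).1 id := mem_upperSL.1 (inv_mem hg)
  obtain ⟨hu1, hu2⟩ := mem_unitri.1 hu
  have hgu : BlockTriangular (g.1 * u.1) id := (mem_upperSL.1 hg).mul hu1
  refine mem_unitri.2 ⟨?_, fun i => ?_⟩
  · rw [Matrix.SpecialLinearGroup.coe_mul, Matrix.SpecialLinearGroup.coe_mul]
    exact hgu.mul hg'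
  · rw [Matrix.SpecialLinearGroup.coe_mul, Matrix.SpecialLinearGroup.coe_mul, diag_mul hgu hg',
      diag_mul (mem_upperSL.1 hg) hu1, hu2, mul_one, ← diag_mul (mem_upperSL.1 hg) hg',
      ← Matrix.SpecialLinearGroup.coe_mul, mul_inv_cancel, Matrix.SpecialLinearGroup.coe_one, Matrix.one_apply_eq]

theorem mem_normalizer_iff [NeZero n] {p : ℕ} [Fact p.Prime] [CharP F p] {g : Matrix.SpecialLinearGroup (Fin n) F} :
    proj g ∈ Subgroup.normalizer ((projU (n := n) (F := F)) : Set (Matrix.ProjectiveSpecialLinearGroup (Fin n) F)) ↔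
      g ∈ upperSL (n := n) (F := F) := by
  constructor
  · intro hg
    refine upper_of_normalizes fun u hu => ?_
    obtain ⟨w, hw, hwe⟩ := (Subgroup.mem_normalizer_iff.1 hg (proj u)).1 ⟨u, hu, rfl⟩
    rw [← map_inv, ← map_mul, ← map_mul] at hwe
    obtain ⟨c, -, hc⟩ := proj_eq_iff.1 hwe
    have hp1 : (g * u * g⁻¹).1 ^ p ^ n = 1 := by
      rw [← Matrix.SpecialLinearGroup.coe_pow, conj_pow, unitri_pow_eq_one hu, mul_one,
        mul_inv_cancel, Matrix.SpecialLinearGroup.coe_one]
    rw [hc, smul_pow, ← Matrix.SpecialLinearGroup.coe_pow, unitri_pow_eq_one hw,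
      Matrix.SpecialLinearGroup.coe_one] at hp1
    have hc1 : c = 1 := eq_one_of_pow_prime_pow (p := p) (k := n) (by
      simpa using congrFun (congrFun hp1 0) 0)
    rw [hc1, one_smul] at hc
    rwa [show g * u * g⁻¹ = w from Subtype.ext hc]
  · intro hg
    rw [Subgroup.mem_normalizer_iff]
    have key : ∀ h ∈ upperSL (n := n) (F := F), ∀ x ∈ projU (n := n) (F := F),
        proj h * x * (proj h)⁻¹ ∈ projU (n := n) (F := F) := by
      rintro h hh _ ⟨u, hu, rfl⟩
      exact ⟨_, conj_unitri hh hu, by rw [map_mul, map_mul, map_inv]⟩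
    intro x
    refine ⟨key g hg x, fun hx => ?_⟩
    simpa [mul_assoc, map_inv] using key _ (inv_mem hg) _ hx

/-- the stabiliser of a subspace -/
def stabW (W : Submodule F (Fin n → F)) : Subgroup (Matrix.SpecialLinearGroup (Fin n) F) :=
  let S : Submonoid (Matrix.SpecialLinearGroup (Fin n) F) :=
    { carrier := {A | ∀ v ∈ W, A.1 *ᵥ v ∈ W}
      one_mem' := fun v hv => by simpa using hv
      mul_mem' := fun {A B} hA hB v hv => by
        rw [Matrix.SpecialLinearGroup.coe_mul, ← Matrix.mulVec_mulVec]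
        exact hA _ (hB v hv) }
  { S with
    inv_mem' := fun {A} hA => by
      have h : (A⁻¹ : Matrix.SpecialLinearGroup (Fin n) F) = A ^ (orderOf A - 1) := by
        refine inv_eq_of_mul_eq_one_right ?_
        rw [← pow_succ', Nat.sub_add_cancel (orderOf_pos A), pow_orderOf_eq_one]
      rw [h]
      exact S.pow_mem hA _ }

theorem mem_stabW {W : Submodule F (Fin n → F)} {A : Matrix.SpecialLinearGroup (Fin n) F} :
    A ∈ stabW W ↔ ∀ v ∈ W, A.1 *ᵥ v ∈ W := Iff.rfl

theorem mem_map_stabW {W : Submodule F (Fin n → F)} {g : Matrix.SpecialLinearGroup (Fin n) F} :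
    proj g ∈ (stabW W).map proj ↔ g ∈ stabW W := by
  refine ⟨?_, fun h => ⟨g, h, rfl⟩⟩
  rintro ⟨h, hh, e⟩
  obtain ⟨c, -, hc⟩ := proj_eq_iff.1 e
  intro v hv
  rw [hc, Matrix.smul_mulVec]
  exact W.smul_mem c (hh v hv)

/-- the coordinate subspaces -/
def lvl (k : ℕ) : Submodule F (Fin n → F) where
  carrier := {v | ∀ i : Fin n, k ≤ i.val → v i = 0}
  zero_mem' := fun _ _ => rfl
  add_mem' := fun {a b} ha hb i hi => by rw [Pi.add_apply, ha i hi, hb i hi, add_zero]
  smul_mem' := fun c a ha i hi => by rw [Pi.smul_apply, ha i hi, smul_zero]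

theorem mem_lvl {k : ℕ} {v : Fin n → F} : v ∈ lvl (n := n) (F := F) k ↔ ∀ i : Fin n, k ≤ i.val → v i = 0 := Iff.rfl

theorem mem_stab_lvl {k : ℕ} {g : Matrix.SpecialLinearGroup (Fin n) F} :
    g ∈ stabW (lvl (n := n) (F := F) k) ↔ ∀ i j : Fin n, k ≤ i.val → j.val < k → g.1 i j = 0 := by
  constructor
  · intro h i j hi hj
    have h1 := h (ev j) (fun l hl => by
      rw [ev, Pi.single_eq_of_ne]
      intro e; subst e; omega) i hi
    rwa [ev, Matrix.mulVec_single_one] at h1
  · intro h v hv i hi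
    show ∑ j, g.1 i j * v j = 0
    refine Finset.sum_eq_zero fun j _ => ?_
    by_cases hj : j.val < k
    · simp [h i j hi hj]
    · simp [hv j (by omega)]

/-- the span of the orbit of the first basis vector -/
def orbSpan [NeZero n] (M : Subgroup (Matrix.ProjectiveSpecialLinearGroup (Fin n) F)) : Submodule F (Fin n → F) :=
  Submodule.span F {v | ∃ g ∈ M.comap proj, g.1 *ᵥ (ev 0 : Fin n → F) = v}

theorem ev_zero_mem [NeZero n] (M : Subgroup (Matrix.ProjectiveSpecialLinearGroup (Fin n) F)) :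
    (ev 0 : Fin n → F) ∈ orbSpan M := Submodule.subset_span ⟨1, one_mem _, by simp⟩

theorem comap_le_stab [NeZero n] (M : Subgroup (Matrix.ProjectiveSpecialLinearGroup (Fin n) F)) :
    M.comap proj ≤ stabW (orbSpan M) := by
  intro g hg w hw
  unfold orbSpan at hw ⊢
  induction hw using Submodule.span_induction with
  | mem x hx =>
    obtain ⟨k, hk, rfl⟩ := hx
    exact Submodule.subset_span ⟨g * k, mul_mem hg hk, by
      rw [Matrix.SpecialLinearGroup.coe_mul, ← Matrix.mulVec_mulVec]⟩
  | zero => rw [Matrix.mulVec_zero]; exact zero_mem _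
  | add x y _ _ hx hy => rw [Matrix.mulVec_add]; exact add_mem hx hy
  | smul c x _ hx => rw [Matrix.mulVec_smul]; exact Submodule.smul_mem _ c hx

/-- a subgroup over the unitriangular group whose orbit of the first point spans is everything -/
theorem eq_top_of_span [NeZero n] (hn : 2 ≤ n) [IsSimpleGroup (Matrix.ProjectiveSpecialLinearGroup (Fin n) F)]
    {M : Subgroup (Matrix.ProjectiveSpecialLinearGroup (Fin n) F)} (hUM : projU (n := n) (F := F) ≤ M)
    (hW : ∀ i, (ev i : Fin n → F) ∈ orbSpan M) : M = ⊤ := by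
  classical
  obtain ⟨e0, he0⟩ : ∃ e0 : Fin n → F, e0 = ev 0 := ⟨_, rfl⟩
  have he00 : ∀ f : Fin n → F, f ⬝ᵥ e0 = f 0 := fun f => by rw [he0, ev, dotProduct_single_one]
  have he0' : ∀ j, j ≠ 0 → e0 j = 0 := fun j hj => by rw [he0, ev, Pi.single_eq_of_ne hj]
  have hU : (unitri (n := n) (F := F)) ≤ M.comap proj := fun u hu => hUM ⟨u, hu, rfl⟩
  have htv : ∀ (f : Fin n → F) (h : f ⬝ᵥ e0 = 0), tv e0 f h ∈ unitri (n := n) (F := F) := by
    intro f h
    have hf0 : f 0 = 0 := (he00 f).symm.trans h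
    refine mem_unitri.2 ⟨fun i j hij => ?_, fun i => ?_⟩
    · rw [tv_val, rk1, Matrix.add_apply, Matrix.vecMulVec_apply,
        Matrix.one_apply_ne (ne_of_gt (show j < i from hij)), zero_add, he0' i (fun e => ?_), zero_mul]
      subst e
      exact absurd (show j < 0 from hij) (Fin.not_lt_zero j)
    · rw [tv_val, rk1, Matrix.add_apply, Matrix.vecMulVec_apply, Matrix.one_apply_eq]
      rcases eq_or_ne i 0 with rfl | hi
      · rw [hf0, mul_zero, add_zero]
      · rw [he0' i hi, zero_mul, add_zero]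
  obtain ⟨Z, hZ⟩ : ∃ Z : Set (Fin n → F), Z = {v | ∀ f (h : f ⬝ᵥ v = 0), tv v f h ∈ M.comap proj} := ⟨_, rfl⟩
  have hZg : ∀ g ∈ M.comap proj, ∀ v ∈ Z, g.1 *ᵥ v ∈ Z := by
    intro g hg v hv
    rw [hZ] at hv ⊢
    intro f h
    have h' : (f ᵥ* g.1) ⬝ᵥ v = 0 := by rw [← Matrix.dotProduct_mulVec, h]
    have h1 := mul_mem (mul_mem hg (hv _ h')) (inv_mem hg)
    rw [conj_tv] at h1
    convert h1 using 2
    rw [Matrix.vecMul_vecMul, ← Matrix.SpecialLinearGroup.coe_mul, mul_inv_cancel,
      Matrix.SpecialLinearGroup.coe_one, Matrix.vecMul_one]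
  have hZs : ∀ (c : F), ∀ v ∈ Z, c • v ∈ Z := by
    intro c v hv
    rw [hZ] at hv ⊢
    intro f h
    have h' : (c • f) ⬝ᵥ v = 0 := by rw [smul_dotProduct, ← dotProduct_smul, h]
    convert hv _ h' using 1
    exact tv_congr _ _ (by rw [smul_vecMulVec, vecMulVec_smul])
  have hZall : ∀ v ∈ orbSpan M, v ∈ Z := by
    intro v hv
    rw [orbSpan] at hv
    induction hv using Submodule.span_induction with
    | mem x hx =>
      obtain ⟨g, hg, rfl⟩ := hx
      refine hZg g hg _ ?_
      rw [hZ, ← he0]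
      exact fun f h => hU (htv f h)
    | zero =>
      rw [hZ]
      intro f h
      rw [tv_eq_one h (by simp)]
      exact one_mem _
    | smul c x _ hx => exact hZs c x hx
    | add x y _ _ hx hy =>
      by_cases hspan : x ∈ Submodule.span F {y}
      · obtain ⟨a, rfl⟩ := Submodule.mem_span_singleton.1 hspan
        have := hZs (a + 1) y hy
        rwa [add_smul, one_smul] at this
      · obtain ⟨φ, hφ, hφy⟩ := Submodule.exists_dual_map_eq_bot_of_notMem hspan inferInstance
        have hy0 : φ y = 0 := by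
          have h1 : φ y ∈ (Submodule.span F {y}).map φ :=
            Submodule.mem_map_of_mem (Submodule.mem_span_singleton_self y)
          rwa [hφy, Submodule.mem_bot] at h1
        have hdot : ∀ z : Fin n → F, ((φ x)⁻¹ • fun i => φ (Pi.single i 1)) ⬝ᵥ z = (φ x)⁻¹ * φ z := by
          intro z
          rw [smul_dotProduct, smul_eq_mul, dual_dot]
        have hyZ : tv y ((φ x)⁻¹ • fun i => φ (Pi.single i 1)) (by rw [hdot, hy0, mul_zero]) ∈ M.comap proj := by
          rw [hZ] at hy
          exact hy _ _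
        have h1 := hZg _ hyZ x hx
        rw [tv_mulVec', hdot, inv_mul_cancel₀ hφ, one_smul] at h1
        exact h1
  have htop : ∀ v, v ∈ orbSpan M := fun v => by
    rw [pi_eq_sum_univ' v]
    exact sum_mem fun i _ => Submodule.smul_mem _ _ (hW i)
  obtain ⟨i1, hi1⟩ : ∃ i1 : Fin n, i1 ≠ 0 := ⟨⟨1, by omega⟩, fun h => absurd (congrArg Fin.val h) (by simp)⟩
  have ht0 : (ev i1 : Fin n → F) ⬝ᵥ e0 = 0 := by rw [he00, ev, Pi.single_eq_of_ne hi1.symm]
  have hne : proj (tv e0 (ev i1) ht0) ≠ 1 := by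
    intro h
    rw [← map_one (proj (n := n) (F := F))] at h
    have h1 := unitri_proj_inj (htv _ ht0) (one_mem _) h
    have h2 := congrFun (congrFun (congrArg Subtype.val h1) 0) i1
    simp [rk1, he0, ev, Matrix.vecMulVec_apply, hi1.symm] at h2
  refine eq_top_of_normal Subgroup.normalClosure_normal
    (N := Subgroup.normalClosure {proj (tv e0 (ev i1) ht0)})
    (fun h => hne (Subgroup.mem_bot.1 (h ▸ Subgroup.subset_normalClosure rfl))) ?_
  rw [Subgroup.normalClosure, Subgroup.closure_le]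
  intro z hz
  obtain ⟨u, hu, hc⟩ := Group.mem_conjugatesOfSet_iff.1 hz
  rw [Set.mem_singleton_iff] at hu
  subst hu
  obtain ⟨k, rfl⟩ := isConj_iff.1 hc
  obtain ⟨g, rfl⟩ := QuotientGroup.mk'_surjective _ k
  have h1 : g * tv e0 (ev i1) ht0 * g⁻¹ ∈ M.comap proj := by
    rw [conj_tv]
    have h2 := hZall (g.1 *ᵥ e0) (htop _)
    rw [hZ] at h2
    exact h2 _ _
  rw [Subgroup.mem_comap, map_mul, map_mul, map_inv] at h1
  exact h1

end CfsgLib.Lie.PMin.Linear
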