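import Cfsg.Agent.Lib.Lie.PMin.LinearBase
import Cfsg.Agent.Lib.Classical.SLBasic

/-!
# Projective special linear groups of dimension at least four

The centre of the Sylow subgroup and the centraliser of its second centre are normalised by two overgroups that
generate everything.
-/

set_option autoImplicit false

namespace CfsgLib.Lie.PMin

open Matrix CfsgLib.AutPSL CfsgLib.Lie.SylowOver Linear
open scoped Matrix

section Char

variable {G : Type*} [Group G]

/-- the centre of a subgroup -/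
def zOf (U : Subgroup G) : Subgroup G := U ⊓ Subgroup.centralizer (U : Set G)

/-- the second centre of a subgroup, as a set -/
def secSet (U : Subgroup G) : Set G := {x | x ∈ U ∧ ∀ u ∈ U, x * u * x⁻¹ * u⁻¹ ∈ zOf U}

/-- the centraliser of the second centre -/
def cSec (U : Subgroup G) : Subgroup G := U ⊓ Subgroup.centralizer (secSet U)

theorem map_centralizer_image (β : MulAut G) (s : Set G) :
    (Subgroup.centralizer s).map β.toMonoidHom = Subgroup.centralizer (β '' s) := by
  ext x
  rw [Subgroup.mem_map_equiv, Subgroup.mem_centralizer_iff, Subgroup.mem_centralizer_iff]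
  constructor
  · rintro h _ ⟨y, hy, rfl⟩
    simpa using congrArg β (h y hy)
  · intro h y hy
    apply β.injective
    simpa using h _ ⟨y, hy, rfl⟩

theorem map_zOf (β : MulAut G) {U : Subgroup G} (h : U.map β.toMonoidHom = U) :
    (zOf U).map β.toMonoidHom = zOf U := by
  have hU : (β '' (U : Set G)) = U := by
    conv_rhs => rw [← h]
    rfl
  rw [zOf, Subgroup.map_inf _ _ _ β.injective, h, map_centralizer_image, hU]

theorem map_cSec (β : MulAut G) {U : Subgroup G} (h : U.map β.toMonoidHom = U) :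
    (cSec U).map β.toMonoidHom = cSec U := by
  have hz := map_zOf β h
  have hUm : ∀ x, β x ∈ U ↔ x ∈ U := fun x => by
    conv_lhs => rw [← h]
    exact Subgroup.mem_map_iff_mem β.injective
  have hzm : ∀ x, β x ∈ zOf U ↔ x ∈ zOf U := fun x => by
    conv_lhs => rw [← hz]
    exact Subgroup.mem_map_iff_mem β.injective
  have hs : β '' secSet U = secSet U := by
    ext y
    obtain ⟨x, rfl⟩ := β.surjective y
    rw [β.injective.mem_set_image]
    refine and_congr (hUm x).symm ⟨fun hx u hu => ?_, fun hx u hu => ?_⟩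
    · obtain ⟨u', rfl⟩ := β.surjective u
      have := (hzm _).2 (hx u' ((hUm u').1 hu))
      simpa using this
    · rw [← hzm]
      simpa using hx (β u) ((hUm u).2 hu)
  rw [cSec, Subgroup.map_inf _ _ _ β.injective, h, map_centralizer_image, hs]

theorem le_normalizer_of_map {U C : Subgroup G}
    (h : ∀ β : MulAut G, U.map β.toMonoidHom = U → C.map β.toMonoidHom = C) :
    U ≤ Subgroup.normalizer (C : Set G) := by
  intro u hu
  have hfix : U.map (MulAut.conj u).toMonoidHom = U := by
    ext x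
    rw [Subgroup.mem_map_equiv, MulAut.conj_symm_apply, Subgroup.mul_mem_cancel_right _ hu,
      Subgroup.mul_mem_cancel_left _ (inv_mem hu)]
  have hC := h _ hfix
  rw [Subgroup.mem_normalizer_iff]
  intro x
  constructor
  · exact fun hx => hC.le ⟨x, hx, rfl⟩
  · intro hx
    obtain ⟨y, hy, e⟩ := hC.ge hx
    rwa [← (MulAut.conj u).injective e]

end Char

/-- the penultimate index -/
def pen (m : ℕ) : Fin (m + 2) := ⟨m, by omega⟩

section Split

variable {F : Type} [Field F] [Finite F] {m : ℕ}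

local notation "G" => Matrix.SpecialLinearGroup (Fin (m + 2)) F
local notation "P" => Matrix.ProjectiveSpecialLinearGroup (Fin (m + 2)) F
local notation "U" => (projU (n := m + 2) (F := F))
local notation "U₀" => (unitri (n := m + 2) (F := F))
local notation "lst" => Fin.last (m + 1)

variable (hm : 2 ≤ m)

omit [Finite F] in
theorem comm_proj {x : G} {a b : Fin (m + 2)} (hab : a ≠ b) (t : F)
    (hc : ∀ i, x.1 i a = if i = a then 1 else 0) (hr : ∀ j, x.1 b j = if j = b then 1 else 0) :
    proj (xe a b hab t) * proj x = proj x * proj (xe a b hab t) := by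
  rw [← map_mul, ← map_mul]
  congr 1
  refine Subtype.ext ?_
  rw [Matrix.SpecialLinearGroup.coe_mul, Matrix.SpecialLinearGroup.coe_mul, xe_val, add_mul, mul_add, one_mul,
    mul_one, Matrix.smul_mul, Matrix.mul_smul, comm_single hc hr]

theorem unitri_col {x : G} (hx : x ∈ U₀) {a : Fin (m + 2)} (h : ∀ i, i < a → x.1 i a = 0) (i : Fin (m + 2)) :
    x.1 i a = if i = a then 1 else 0 := by
  rcases lt_trichotomy i a with hi | rfl | hi
  · rw [h i hi, if_neg hi.ne]
  · rw [(mem_unitri.1 hx).2, if_pos rfl]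
  · rw [(mem_unitri.1 hx).1 (show id a < id i from hi), if_neg hi.ne']

theorem unitri_row {x : G} (hx : x ∈ U₀) {b : Fin (m + 2)} (h : ∀ j, b < j → x.1 b j = 0) (j : Fin (m + 2)) :
    x.1 b j = if j = b then 1 else 0 := by
  rcases lt_trichotomy j b with hj | rfl | hj
  · rw [(mem_unitri.1 hx).1 (show id j < id b from hj), if_neg hj.ne]
  · rw [(mem_unitri.1 hx).2, if_pos rfl]
  · rw [h j hj, if_neg hj.ne']

include hm

theorem idx : (0 : Fin (m + 2)) < 1 ∧ (1 : Fin (m + 2)) < pen m ∧ pen m < lst ∧ (0 : Fin (m + 2)) ≠ lst := by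
  refine ⟨?_, ?_, ?_, ?_⟩
  · rw [Fin.lt_def]; simp
  · rw [Fin.lt_def]; simp [pen]; omega
  · rw [Fin.lt_def]; simp [pen]
  · intro h; simpa using congrArg Fin.val h

theorem below_one (i : Fin (m + 2)) (hi : i < 1) : i = 0 := by
  rw [Fin.lt_def] at hi
  exact Fin.ext (by simp at hi ⊢; omega)

theorem above_pen (j : Fin (m + 2)) (hj : pen m < j) : j = lst := by
  rw [Fin.lt_def] at hj
  have := j.isLt
  exact Fin.ext (by simp [pen] at hj ⊢; omega)

theorem xe_mem_zOf (s : F) : proj (xe (0 : Fin (m + 2)) lst (idx hm).2.2.2 s) ∈ zOf U := by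
  rw [zOf, center_projU (idx hm).2.2.2]
  exact mem_rootGp.2 ⟨s, rfl⟩

theorem mem_zOf {x : P} (hx : x ∈ zOf U) :
    ∃ s : F, x = proj (xe (0 : Fin (m + 2)) lst (idx hm).2.2.2 s) := by
  rw [zOf, center_projU (idx hm).2.2.2] at hx
  exact mem_rootGp.1 hx

/-- two of the elements of the second centre -/
theorem xe_mem_sec {a b : Fin (m + 2)} (hab : a < b)
    (h : (a = 0 ∧ b = pen m) ∨ (a = 1 ∧ b = lst)) (t : F) :
    proj (xe a b hab.ne t) ∈ secSet U := by
  obtain ⟨h01, h1p, hpl, h0l⟩ := idx hm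
  refine ⟨⟨_, xe_mem_unitri hab t, rfl⟩, ?_⟩
  rintro _ ⟨u, hu, rfl⟩
  obtain ⟨z, hz⟩ : ∃ z, z = xe a b hab.ne t := ⟨_, rfl⟩
  rw [← hz, ← map_inv, ← map_inv, ← map_mul, ← map_mul, ← map_mul]
  obtain ⟨s, hs⟩ : ∃ s, s = if a = 0 then t * u.1 b lst else -(t * u.1 0 a) := ⟨_, rfl⟩
  suffices he : z * u * z⁻¹ * u⁻¹ = xe (0 : Fin (m + 2)) lst h0l s by
    rw [he]; exact xe_mem_zOf hm s
  rw [mul_inv_eq_iff_eq_mul, mul_inv_eq_iff_eq_mul, mul_assoc]
  refine Subtype.ext (Matrix.ext fun i j => ?_)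
  rw [Matrix.SpecialLinearGroup.coe_mul, Matrix.SpecialLinearGroup.coe_mul, hz, xe_mul_apply, xe_mul_apply,
    Matrix.SpecialLinearGroup.coe_mul, mul_xe_apply, mul_xe_apply]
  have hu1 := (mem_unitri.1 hu).1
  have hu2 := (mem_unitri.1 hu).2
  have hL : ∀ j, u.1 lst j = if j = lst then 1 else 0 :=
    unitri_row hu fun j hj => absurd hj (not_lt.2 (Fin.le_last j))
  have hC : ∀ i, u.1 i 0 = if i = 0 then 1 else 0 :=
    unitri_col hu fun i hi => absurd hi (Fin.not_lt_zero i)
  rcases h with ⟨rfl, rfl⟩ | ⟨rfl, rfl⟩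
  · rw [if_pos rfl] at hs
    have hp : ∀ j, u.1 (pen m) j = (if j = pen m then 1 else 0) + if j = lst then u.1 (pen m) lst else 0 := by
      intro j
      rcases lt_trichotomy j (pen m) with hj | rfl | hj
      · rw [hu1 (show id j < id (pen m) from hj), if_neg hj.ne, if_neg (hj.trans hpl).ne, add_zero]
      · rw [hu2, if_pos rfl, if_neg hpl.ne, add_zero]
      · rw [above_pen hm j hj, if_neg hpl.ne', if_pos rfl, zero_add]
    rw [hp, hC, hL, hL, hs]
    by_cases hi : i = 0
    · subst hi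
      by_cases hj : j = lst
      · subst hj; simp [hpl.ne, hpl.ne']
      · by_cases hj' : j = pen m
        · subst hj'; simp [hj, h0l, h0l.symm]
        · simp [hj, hj']
    · simp [hi]
  · rw [if_neg h01.ne'] at hs
    have hc : ∀ i, u.1 i 1 = (if i = 1 then 1 else 0) + if i = 0 then u.1 0 1 else 0 := by
      intro i
      rcases lt_trichotomy i 1 with hi | rfl | hi
      · rw [below_one hm i hi, if_neg h01.ne, if_pos rfl, zero_add]
      · rw [hu2, if_pos rfl, if_neg h01.ne', add_zero]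
      · rw [hu1 (show id (1 : Fin (m + 2)) < id i from hi), if_neg hi.ne', if_neg (h01.trans hi).ne', add_zero]
    rw [hc, hL, hL, hs]
    by_cases hj : j = lst
    · subst hj
      by_cases hi : i = 0
      · subst hi; simp [h01.ne, h01.ne', (h1p.trans hpl).ne', (h1p.trans hpl).ne]
      · by_cases hi' : i = 1
        · subst hi'; simp [hi, (h1p.trans hpl).ne']
        · simp [hi, hi']
    · simp [hj]

/-- the entries of the second centre -/
theorem sec_pattern {w : G} (hw : w ∈ U₀) (h : proj w ∈ secSet U) (i j : Fin (m + 2)) (hij : i < j)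
    (h0 : ¬ (i = 0 ∧ (j = lst ∨ j = pen m))) (h1 : ¬ (i = 1 ∧ j = lst)) : w.1 i j = 0 := by
  obtain ⟨h01, h1p, hpl, h0l⟩ := idx hm
  have key : ∀ a b : Fin (m + 2), a < b → ∀ i j : Fin (m + 2), ¬ (i = 0 ∧ j = lst) →
      (if j = b then w.1 i a else 0) = if i = a then w.1 b j else 0 := by
    intro a b hab i j hne
    obtain ⟨u, hu⟩ : ∃ u, u = xe a b hab.ne (1 : F) := ⟨_, rfl⟩
    have huU : u ∈ U₀ := hu ▸ xe_mem_unitri hab 1
    have hz := h.2 (proj u) ⟨u, huU, rfl⟩
    rw [← map_inv, ← map_inv, ← map_mul, ← map_mul, ← map_mul] at hz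
    obtain ⟨s, hs⟩ := mem_zOf hm hz
    have he := unitri_proj_inj (mul_mem (mul_mem (mul_mem hw huU) (inv_mem hw)) (inv_mem huU))
      (xe_mem_unitri (Fin.pos_iff_ne_zero.2 h0l.symm) s) hs
    rw [mul_inv_eq_iff_eq_mul, mul_inv_eq_iff_eq_mul, mul_assoc] at he
    have hent := congrFun (congrFun (congrArg Subtype.val he) i) j
    rw [Matrix.SpecialLinearGroup.coe_mul, Matrix.SpecialLinearGroup.coe_mul, xe_mul_apply,
      Matrix.SpecialLinearGroup.coe_mul, hu, mul_xe_apply, xe_mul_apply] at hent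
    simp only [one_mul] at hent
    have hz0 : (if i = 0 then s * ((xe a b hab.ne (1 : F)).1 * w.1) lst j else 0) = 0 := by
      by_cases hi : i = 0
      · rw [if_pos hi, ← Matrix.SpecialLinearGroup.coe_mul,
          (unitri_row (mul_mem (xe_mem_unitri hab 1) hw) fun j hj => absurd hj (not_lt.2 (Fin.le_last j))) j,
          if_neg fun e => hne ⟨hi, e⟩, mul_zero]
      · rw [if_neg hi]
    rw [hz0, add_zero] at hent
    exact add_left_cancel hent
  by_cases hi : i = 0
  · subst hi
    have hj : j < pen m := by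
      rcases lt_trichotomy j (pen m) with hj | rfl | hj
      · exact hj
      · exact absurd ⟨rfl, Or.inr rfl⟩ h0
      · exact absurd ⟨rfl, Or.inl (above_pen hm j hj)⟩ h0
    have := key j (pen m) hj 0 (pen m) fun e => hpl.ne e.2
    rwa [if_pos rfl, if_neg hij.ne] at this
  by_cases hj : j = lst
  · subst hj
    have hi1 : 1 < i := by
      rcases lt_trichotomy i 1 with h' | h' | h'
      · exact absurd (below_one hm i h') hi
      · exact absurd ⟨h', rfl⟩ h1
      · exact h'
    have := key 1 i hi1 1 lst fun e => h01.ne' e.1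
    rwa [if_neg hij.ne', if_pos rfl, eq_comm] at this
  · have := key j lst (Fin.lt_last_iff_ne_last.2 hj) i lst fun e => hi e.1
    rwa [if_pos rfl, if_neg hij.ne] at this

theorem mem_cSec_iff {y : P} :
    y ∈ cSec U ↔ ∃ x ∈ U₀, x.1 0 1 = 0 ∧ x.1 (pen m) lst = 0 ∧ proj x = y := by
  obtain ⟨h01, h1p, hpl, h0l⟩ := idx hm
  constructor
  · rintro ⟨⟨x, hx, rfl⟩, hc⟩
    refine ⟨x, hx, ?_, ?_, rfl⟩
    · have h := Subgroup.mem_centralizer_iff.1 hc _ (xe_mem_sec hm (h1p.trans hpl) (Or.inr ⟨rfl, rfl⟩) 1)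
      rw [← map_mul, ← map_mul] at h
      have h1 := congrFun (congrFun (congrArg Subtype.val (unitri_proj_inj
        (mul_mem (xe_mem_unitri (h1p.trans hpl) 1) hx) (mul_mem hx (xe_mem_unitri (h1p.trans hpl) 1)) h)) 0) lst
      rw [Matrix.SpecialLinearGroup.coe_mul, Matrix.SpecialLinearGroup.coe_mul, xe_mul_apply, mul_xe_apply,
        if_neg h01.ne, if_pos rfl, one_mul] at h1
      exact (add_left_cancel h1).symm
    · have h := Subgroup.mem_centralizer_iff.1 hc _ (xe_mem_sec hm (h01.trans h1p) (Or.inl ⟨rfl, rfl⟩) 1)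
      rw [← map_mul, ← map_mul] at h
      have h1 := congrFun (congrFun (congrArg Subtype.val (unitri_proj_inj
        (mul_mem (xe_mem_unitri (h01.trans h1p) 1) hx) (mul_mem hx (xe_mem_unitri (h01.trans h1p) 1)) h)) 0) lst
      rw [Matrix.SpecialLinearGroup.coe_mul, Matrix.SpecialLinearGroup.coe_mul, xe_mul_apply, mul_xe_apply,
        if_pos rfl, if_neg hpl.ne', one_mul] at h1
      exact add_left_cancel h1
  · rintro ⟨x, hx, hx01, hxp, rfl⟩
    refine ⟨⟨x, hx, rfl⟩, Subgroup.mem_centralizer_iff.2 fun y hy => ?_⟩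
    obtain ⟨w, hw, rfl⟩ := hy.1
    rw [← map_mul, ← map_mul]
    congr 1
    refine Subtype.ext ?_
    rw [Matrix.SpecialLinearGroup.coe_mul, Matrix.SpecialLinearGroup.coe_mul]
    have hdec : w.1 = 1 + w.1 0 (pen m) • Matrix.single 0 (pen m) 1 + w.1 1 lst • Matrix.single 1 lst 1 +
        w.1 0 lst • Matrix.single 0 lst 1 := by
      refine Matrix.ext fun i j => ?_
      simp only [Matrix.add_apply, Matrix.smul_apply, Matrix.single_apply, smul_eq_mul, mul_ite, mul_one, mul_zero]
      rcases lt_trichotomy i j with hij | rfl | hij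
      · rw [Matrix.one_apply_ne hij.ne]
        by_cases e1 : i = 0 ∧ j = lst
        · obtain ⟨rfl, rfl⟩ := e1; simp [hpl.ne, h01.ne']
        by_cases e2 : i = 0 ∧ j = pen m
        · obtain ⟨rfl, rfl⟩ := e2; simp [hpl.ne', h01.ne']
        by_cases e3 : i = 1 ∧ j = lst
        · obtain ⟨rfl, rfl⟩ := e3; simp [h01.ne]
        rw [sec_pattern hm hw hy i j hij (fun h => h.2.elim (fun e => e1 ⟨h.1, e⟩) fun e => e2 ⟨h.1, e⟩) e3,
          if_neg fun e => e2 ⟨e.1.symm, e.2.symm⟩, if_neg fun e => e3 ⟨e.1.symm, e.2.symm⟩,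
          if_neg fun e => e1 ⟨e.1.symm, e.2.symm⟩]
        simp
      · have n1 : ¬ ((0 : Fin (m + 2)) = i ∧ pen m = i) := fun e => (h01.trans h1p).ne (e.1.trans e.2.symm)
        have n2 : ¬ ((1 : Fin (m + 2)) = i ∧ lst = i) := fun e => (h1p.trans hpl).ne (e.1.trans e.2.symm)
        have n3 : ¬ ((0 : Fin (m + 2)) = i ∧ lst = i) := fun e => h0l (e.1.trans e.2.symm)
        rw [(mem_unitri.1 hw).2, Matrix.one_apply_eq, if_neg n1, if_neg n2, if_neg n3]
        simp
      · have n1 : ¬ ((0 : Fin (m + 2)) = i ∧ pen m = j) := fun e => Fin.not_lt_zero j (e.1.symm ▸ hij)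
        have n2 : ¬ ((1 : Fin (m + 2)) = i ∧ lst = j) := fun e => not_lt.2 (Fin.le_last i) (e.2.symm ▸ hij)
        have n3 : ¬ ((0 : Fin (m + 2)) = i ∧ lst = j) := fun e => Fin.not_lt_zero j (e.1.symm ▸ hij)
        rw [(mem_unitri.1 hw).1 (show id j < id i from hij), Matrix.one_apply_ne hij.ne', if_neg n1, if_neg n2,
          if_neg n3]
        simp
    have c1 := comm_single (a := (0 : Fin (m + 2))) (b := pen m) (unitri_col hx fun i hi => absurd hi (Fin.not_lt_zero i))
      (unitri_row hx fun j hj => by rw [above_pen hm j hj]; exact hxp)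
    have c2 := comm_single (a := (1 : Fin (m + 2))) (b := lst) (unitri_col hx fun i hi => by rw [below_one hm i hi]; exact hx01)
      (unitri_row hx fun j hj => absurd hj (not_lt.2 (Fin.le_last j)))
    have c3 := comm_single (a := (0 : Fin (m + 2))) (b := lst) (unitri_col hx fun i hi => absurd hi (Fin.not_lt_zero i))
      (unitri_row hx fun j hj => absurd hj (not_lt.2 (Fin.le_last j)))
    rw [hdec]
    simp only [add_mul, mul_add, one_mul, mul_one, Matrix.smul_mul, Matrix.mul_smul, c1, c2, c3]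

/-- conjugation by an opposite simple element -/
theorem conj_adj {a b : Fin (m + 2)} (hab : a.val + 1 = b.val) (t : F) {x : G} (hx : x ∈ U₀) (hxab : x.1 a b = 0) :
    ∃ y ∈ U₀, y = xe b a (fun e => by rw [e] at hab; omega) t * x *
        (xe b a (fun e => by rw [e] at hab; omega) t)⁻¹ ∧
      y.1 a b = 0 ∧ ∀ i j, i ≠ b → j ≠ a → y.1 i j = x.1 i j := by
  have hlt : a < b := Fin.lt_def.2 (by omega)
  have hne : b ≠ a := hlt.ne'
  obtain ⟨y, hy⟩ : ∃ y, y = xe b a hne t * x * (xe b a hne t)⁻¹ := ⟨_, rfl⟩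
  have hu1 := (mem_unitri.1 hx).1
  have hu2 := (mem_unitri.1 hx).2
  have hent : ∀ i j, y.1 i j = x.1 i j + (if i = b then t * x.1 a j else 0) +
      if j = a then -t * x.1 i b else 0 := by
    intro i j
    rw [hy, xe_inv, Matrix.SpecialLinearGroup.coe_mul, Matrix.SpecialLinearGroup.coe_mul, mul_xe_apply,
      xe_mul_apply, xe_mul_apply, hxab]
    by_cases hi : i = b <;> simp [hi]
  refine ⟨y, mem_unitri.2 ⟨fun i j hij => ?_, fun i => ?_⟩, hy, ?_, fun i j hi hj => ?_⟩
  · change j < i at hij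
    rw [hent, hu1 (show id j < id i from hij), zero_add]
    by_cases hi : i = b
    · subst hi
      rw [if_pos rfl]
      by_cases hj : j = a
      · subst hj; rw [if_pos rfl, hu2, hu2]; ring
      · have hja : j < a := by
          rw [Fin.lt_def] at hij ⊢
          have := Fin.val_ne_of_ne hj
          omega
        rw [if_neg hj, hu1 (show id j < id a from hja), mul_zero, add_zero]
    · rw [if_neg hi, zero_add]
      by_cases hj : j = a
      · subst hj
        have hbi : b < i := by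
          rw [Fin.lt_def] at hij ⊢
          have := Fin.val_ne_of_ne hi
          omega
        rw [if_pos rfl, hu1 (show id b < id i from hbi), mul_zero]
      · rw [if_neg hj]
  · rw [hent, hu2]
    by_cases hi : i = b
    · subst hi; rw [if_pos rfl, if_neg hne, hxab, mul_zero, add_zero, add_zero]
    · rw [if_neg hi]
      by_cases hi' : i = a
      · subst hi'; rw [if_pos rfl, hxab, mul_zero, add_zero, add_zero]
      · rw [if_neg hi', add_zero, add_zero]
  · rw [hent, if_neg hlt.ne, if_neg hne, hxab, add_zero, add_zero]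
  · rw [hent, if_neg hi, if_neg hj, add_zero, add_zero]

theorem end_mem_normalizer {a b : Fin (m + 2)} (hab : a.val + 1 = b.val)
    (h : a = 0 ∨ b = lst) (t : F) :
    proj (xe b a (fun e => by rw [e] at hab; omega) t) ∈ Subgroup.normalizer (cSec U : Set P) := by
  obtain ⟨h01, h1p, hpl, h0l⟩ := idx hm
  obtain ⟨g, hg⟩ : ∃ g, g = proj (xe b a (fun e => by rw [e] at hab; omega) t) := ⟨_, rfl⟩
  rw [← hg]
  have hmap : (cSec U).map (MulAut.conj g).toMonoidHom = cSec U := by
    refine map_eq_of_le _ ?_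
    rintro _ ⟨y, hy, rfl⟩
    obtain ⟨x, hx, hx01, hxp, rfl⟩ := (mem_cSec_iff hm).1 hy
    show g * proj x * g⁻¹ ∈ cSec U
    rw [hg, ← map_inv, ← map_mul, ← map_mul, mem_cSec_iff hm]
    rcases h with rfl | rfl
    · have hb : b = 1 := Fin.ext (by simp at hab ⊢; omega)
      subst hb
      obtain ⟨y, hy, he, hy0, hyr⟩ := conj_adj hm hab t hx hx01
      refine ⟨y, hy, hy0, ?_, congrArg proj he⟩
      rw [hyr _ _ h1p.ne' h0l.symm, hxp]
    · have ha : a = pen m := Fin.ext (by simp [pen] at hab ⊢; omega)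
      subst ha
      obtain ⟨y, hy, he, hy0, hyr⟩ := conj_adj hm hab t hx hxp
      refine ⟨y, hy, ?_, hy0, congrArg proj he⟩
      rw [hyr _ _ h0l h1p.ne, hx01]
  rw [Subgroup.mem_normalizer_iff]
  intro x
  constructor
  · exact fun hx => hmap.le ⟨x, hx, rfl⟩
  · intro hx
    obtain ⟨y, hy, e⟩ := hmap.ge hx
    rwa [← (MulAut.conj g).injective e]

theorem mid_mem_normalizer {a b : Fin (m + 2)} (hba : b ≠ a) (ha : a ≠ 0) (hb : b ≠ lst) (t : F) :
    proj (xe b a hba t) ∈ Subgroup.normalizer (zOf U : Set P) := by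
  refine Subgroup.centralizer_le_normalizer _ (Subgroup.mem_centralizer_iff.2 fun z hz => ?_)
  obtain ⟨s, rfl⟩ := mem_zOf hm hz
  refine comm_proj _ s (fun i => ?_) fun j => ?_
  · rw [xe_val]
    simp [Matrix.one_apply, ha.symm, eq_comm, Matrix.single_apply, ha]
  · rw [xe_val]
    simp [Matrix.one_apply, hb, hb.symm, eq_comm, Matrix.single_apply]

theorem split_succ (p : ℕ) [Fact p.Prime] [CharP F p]
    [IsSimpleGroup (Matrix.ProjectiveSpecialLinearGroup (Fin (m + 2)) F)] :
    Split p (Matrix.ProjectiveSpecialLinearGroup (Fin (m + 2)) F) := by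
  obtain ⟨h01, h1p, hpl, h0l⟩ := idx hm
  have hne1 : proj (xe (0 : Fin (m + 2)) lst h0l (1 : F)) ≠ 1 := by
    intro h
    rw [← map_one (proj (n := m + 2) (F := F))] at h
    have h2 := congrFun (congrFun (congrArg Subtype.val
      (unitri_proj_inj (xe_mem_unitri (Fin.pos_iff_ne_zero.2 h0l.symm) 1) (one_mem _) h)) 0) lst
    rw [xe_val] at h2
    simp [h0l] at h2
  have hUne : U ≠ ⊤ := fun h => proj_xe_not_mem h01 (one_ne_zero (α := F)) (h ▸ Subgroup.mem_top _)
  have hprop : ∀ C : Subgroup P, C ≤ U → proj (xe (0 : Fin (m + 2)) lst h0l (1 : F)) ∈ C →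
      Subgroup.normalizer (C : Set P) ≠ ⊤ := by
    intro C hC hmem htop
    rcases (Subgroup.normalizer_eq_top_iff.1 htop).eq_bot_or_eq_top with e | e
    · exact hne1 (Subgroup.mem_bot.1 (e ▸ hmem))
    · exact hUne (top_le_iff.1 (e ▸ hC))
  refine ⟨sylowU, Subgroup.normalizer (zOf U : Set P), Subgroup.normalizer (cSec U : Set P),
    le_normalizer_of_map fun β hβ => map_zOf β hβ, le_normalizer_of_map fun β hβ => map_cSec β hβ,
    hprop _ inf_le_left (xe_mem_zOf hm 1), hprop _ inf_le_left ?_, ?_, fun β hβ => ?_⟩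
  · refine (mem_cSec_iff hm).2 ⟨_, xe_mem_unitri (Fin.pos_iff_ne_zero.2 h0l.symm) 1, ?_, ?_, rfl⟩ <;> rw [xe_val]
    · simp [h01.ne, (h1p.trans hpl).ne']
    · simp [hpl.ne, (h01.trans h1p).ne, Matrix.one_apply]
  · obtain ⟨J, hJ⟩ : ∃ J, J = Subgroup.normalizer (zOf U : Set P) ⊔ Subgroup.normalizer (cSec U : Set P) := ⟨_, rfl⟩
    rw [← hJ]
    have hUJ : U ≤ J := hJ ▸ (le_normalizer_of_map fun β hβ => map_zOf β hβ).trans le_sup_left
    refine eq_top_of_span (by omega) hUJ fun k => ?_
    induction k using Fin.induction with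
    | zero => exact ev_zero_mem J
    | succ i ih =>
      have hab : (Fin.castSucc i).val + 1 = i.succ.val := rfl
      have hne : i.succ ≠ Fin.castSucc i := fun e => by simpa using congrArg Fin.val e
      have hmem : proj (xe i.succ (Fin.castSucc i) hne (1 : F)) ∈ J := by
        rw [hJ]
        by_cases h : Fin.castSucc i = 0 ∨ i.succ = lst
        · exact Subgroup.mem_sup_right (end_mem_normalizer hm hab h 1)
        · rw [not_or] at h
          exact Subgroup.mem_sup_left (mid_mem_normalizer hm hne h.1 h.2 1)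
      have h := comap_le_stab J hmem _ ih
      rw [xe_mulVec, show (1 : F) * (ev (Fin.castSucc i) : Fin (m + 2) → F) (Fin.castSucc i) = 1 by simp [ev],
        one_smul] at h
      simpa using sub_mem h ih
  · change (projU (n := m + 2) (F := F)).map β.toMonoidHom = projU at hβ
    exact ⟨by rw [Subgroup.map_equiv_normalizer_eq, map_zOf β hβ],
      by rw [Subgroup.map_equiv_normalizer_eq, map_cSec β hβ]⟩

end Split

/-- dimension at least four -/
theorem split_psl {F : Type} [Field F] [Fintype F] {p : ℕ} [Fact p.Prime] [CharP F p] {n : ℕ} (hn : 4 ≤ n) :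
    Split p (Matrix.ProjectiveSpecialLinearGroup (Fin n) F) := by
  obtain ⟨m, rfl⟩ : ∃ m, n = m + 2 := ⟨n - 2, by omega⟩
  haveI : IsSimpleGroup (Matrix.ProjectiveSpecialLinearGroup (Fin (m + 2)) F) :=
    CfsgLib.Classical.psl_isSimple (by omega)
  exact split_succ (by omega) p

end CfsgLib.Lie.PMin
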