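import Cfsg.Agent.Lib.Lie.PMin.Core
import Cfsg.Agent.Lib.Lie.SylowOver.Polar

/-!
# Groups of isometries of a polar space: two parabolic subgroups fixed by the automorphisms fixing a Sylow subgroup

The Sylow subgroup fixes exactly one point and one totally singular line of the polar space.
-/

set_option autoImplicit false
set_option linter.unusedSectionVars false

namespace CfsgLib.Lie.PMin

open Module CfsgLib.Char.PolarSteinberg CfsgLib.Lie.CentralAut CfsgLib.Lie.SylowOver

universe u v w

variable {F : Type u} {V : Type v} [Field F] [AddCommGroup V] [Module F V] {P : Pol F V} {X : Type w} [Group X]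
variable [Finite X] {act : X →* (V ≃ₗ[F] V)} [FiniteDimensional F V] {ε : F}

/-- the only point fixed by the elements trivial on the sections of a point -/
theorem only_fixed (hR : Rich P act ε) (hd : 3 ≤ finrank F V) {x y : V} (hxs : P.sing x) (hx0 : x ≠ 0) (hy0 : y ≠ 0)
    (hfix : ∀ k, PointTrivial P act x k → Submodule.span F {act k y} = Submodule.span F {y}) :
    Submodule.span F {y} = Submodule.span F {x} := by
  suffices h : ∃ c : F, y = c • x by
    obtain ⟨c, rfl⟩ := h
    exact Submodule.span_singleton_smul_eq (isUnit_iff_ne_zero.2 fun h0 => hy0 (by rw [h0, zero_smul])) x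
  by_contra hn
  push Not at hn
  by_cases hb : P.br x y = 0
  · have hyn : y ∉ P.perp (P.perp (Submodule.span F {x})) := by
      rw [P.perp_perp]
      intro h
      obtain ⟨d, hd⟩ := Submodule.mem_span_singleton.1 h
      exact hn d hd.symm
    rw [P.mem_perp] at hyn
    push Not at hyn
    obtain ⟨s, hs, hsy⟩ := hyn
    obtain ⟨k, -, hk⟩ := hR.eich x s hx0 hxs (P.mem_perp_singleton.1 hs)
    exact moved_perp (mul_ne_zero hR.eps_ne hsy) hn hx0 (hk _ hb)
      (hfix k (pointTrivial_of_eich hxs (P.mem_perp_singleton.1 hs) hk))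
  · have h2 : 2 ≤ finrank F (P.perp (Submodule.span F {x})) := by
      have := finrank_perp_point (P := P) _ hx0
      omega
    obtain ⟨s, hs, hsn⟩ := exists_not_mem_span h2 x
    obtain ⟨k, hk', hk⟩ := hR.eich x s hx0 hxs (P.mem_perp_singleton.1 hs)
    exact moved_nonperp hxs (P.mem_perp_singleton.1 hs) hsn hb hy0 hk'
      (hfix k (pointTrivial_of_eich hxs (P.mem_perp_singleton.1 hs) hk))

/-- central elements fix the spans of singular vectors -/
theorem central_span (hR : Rich P act ε) (hd : 3 ≤ finrank F V) {g : X} (hg : g ∈ Subgroup.center X) {T : Set V}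
    (hT : ∀ t ∈ T, P.sing t ∧ t ≠ 0) : (Submodule.span F T).map (act g : V →ₗ[F] V) = Submodule.span F T := by
  have hline : ∀ t ∈ T, Submodule.span F {act g t} = Submodule.span F {t} := fun t ht =>
    only_fixed hR hd (hT t ht).1 (hT t ht).2 (fun h => (hT t ht).2 ((act g).map_eq_zero_iff.1 h)) fun k hk => by
      rw [show act k (act g t) = act g (act k t) by
        rw [← LinearEquiv.mul_apply, ← map_mul, Subgroup.mem_center_iff.1 hg k, map_mul]; rfl, hk.1]
  rw [Submodule.map_span]
  refine le_antisymm (Submodule.span_le.2 ?_) (Submodule.span_le.2 fun t ht => ?_)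
  · rintro _ ⟨t, ht, rfl⟩
    exact Submodule.span_mono (Set.singleton_subset_iff.2 ht) ((hline t ht).le (Submodule.mem_span_singleton_self _))
  · exact Submodule.span_mono (Set.singleton_subset_iff.2 (Set.mem_image_of_mem _ ht))
      ((hline t ht).ge (Submodule.mem_span_singleton_self _))

section Frame

variable {r : ℕ} {e f : Fin r → V}

theorem finrank_pair (hfr : P.IsFrame e f) {i j : Fin r} (hij : i ≠ j) :
    finrank F (Submodule.span F ({e i, e j} : Set V)) = 2 := by
  have hli : LinearIndependent F (e ∘ ![i, j]) := by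
    refine (hfr.linearIndependent_sum.comp Sum.inl Sum.inl_injective).comp _ ?_
    intro a b h
    fin_cases a <;> fin_cases b <;> simp_all [hij.symm]
  have h := finrank_span_eq_card hli
  rw [Fintype.card_fin] at h
  rwa [Set.range_comp, Matrix.range_cons_cons_empty, Set.image_pair] at h

theorem lvl_one (hr : 0 < r) : lvl F e 1 = Submodule.span F {e ⟨0, hr⟩} := by
  rw [lvl_succ e hr, lvl_zero, bot_sup_eq]

theorem lvl_two (hr : 2 ≤ r) :
    lvl F e 2 = Submodule.span F ({e ⟨0, by omega⟩, e ⟨1, by omega⟩} : Set V) := by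
  rw [lvl_succ e (show 1 < r by omega), lvl_one (show 0 < r by omega), ← Submodule.span_union,
    Set.singleton_union]

variable (hR : Rich P act ε) (hfr : P.IsFrame e f) (hr : 2 ≤ r) (hd : 4 ≤ finrank F V)
  (hextra : 5 ≤ finrank F V ∨
    ∃ ν : F, ν ≠ 0 ∧ ∀ x z : V, P.sing x → P.sing z → P.br x z = 1 → P.sing (z + ν • x))

include hR hfr hr hd hextra

/-- the only totally singular line invariant under the graded group -/
theorem plane_unique {W : Submodule F V} (hW : P.IsTS W) (h2 : finrank F W = 2)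
    (hinv : ∀ g, Graded P act e g → ∀ w ∈ W, act g w ∈ W) :
    W = Submodule.span F ({e ⟨0, by omega⟩, e ⟨1, by omega⟩} : Set V) := by
  obtain ⟨x, hx⟩ : ∃ x, x = e ⟨0, by omega⟩ := ⟨_, rfl⟩
  obtain ⟨y, hy⟩ : ∃ y, y = e ⟨1, by omega⟩ := ⟨_, rfl⟩
  rw [← hx, ← hy]
  have hx0 : x ≠ 0 := hx ▸ (frame_ne hfr _).1
  have hy0 : y ≠ 0 := hy ▸ (frame_ne hfr _).1
  have hxs : P.sing x := hx ▸ hfr.sing_e _
  have hys : P.sing y := hy ▸ hfr.sing_e _
  have hpt : ∀ a, P.br x a = 0 → ∀ g, (∀ v, P.br x v = 0 → act g v = v + (ε * P.br a v) • x) →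
      Graded P act e g := fun a ha g hg =>
    graded_of_pointTrivial hfr (by omega) (hx ▸ pointTrivial_of_eich hxs ha hg)
  -- the line is perpendicular to the point
  have hperp : ∀ w ∈ W, P.br x w = 0 := by
    intro w hw
    by_contra hb
    have hle : P.perp (Submodule.span F {x}) ≤ W ⊔ Submodule.span F {x} := by
      intro a ha
      obtain ⟨g, hg, hg'⟩ := hR.eich x a hx0 hxs (P.mem_perp_singleton.1 ha)
      have h1 := hinv g (hpt a (P.mem_perp_singleton.1 ha) g hg') w hw
      obtain ⟨c, hc⟩ := hg w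
      have h3 : P.br x w • a ∈ W ⊔ Submodule.span F {x} := by
        rw [show P.br x w • a = act g w - w - c • x by rw [hc]; abel]
        exact Submodule.sub_mem _ (Submodule.mem_sup_left (W.sub_mem h1 hw))
          (Submodule.mem_sup_right (Submodule.smul_mem _ _ (Submodule.mem_span_singleton_self _)))
      rw [← inv_smul_smul₀ hb a]
      exact Submodule.smul_mem _ _ h3
    have hlt := Submodule.finrank_lt_finrank_of_lt (lt_of_le_of_ne hle fun h =>
      hb (P.mem_perp_singleton.1 (h.ge (Submodule.mem_sup_left hw))))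
    have := finrank_perp_point (P := P) _ hx0
    have h5 := Submodule.finrank_add_le_finrank_add_finrank W (Submodule.span F {x})
    rw [h2, finrank_span_singleton hx0] at h5
    omega
  by_contra hne
  obtain ⟨w, hw, hwn⟩ : ∃ w ∈ W, w ∉ Submodule.span F ({x, y} : Set V) := by
    by_contra h
    push Not at h
    exact hne (Submodule.eq_of_le_of_finrank_eq h (by rw [h2, hx, hy, finrank_pair hfr (by simp)]))
  -- it contains the point
  have hxW : x ∈ W := by
    have hn : w ∉ P.perp (P.perp (Submodule.span F {x})) := by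
      rw [P.perp_perp]
      exact fun h => hwn (Submodule.span_mono (by simp) h)
    rw [P.mem_perp] at hn
    push Not at hn
    obtain ⟨s, hs, hsw⟩ := hn
    obtain ⟨g, -, hg⟩ := hR.eich x s hx0 hxs (P.mem_perp_singleton.1 hs)
    have h1 := W.sub_mem (hinv g (hpt s (P.mem_perp_singleton.1 hs) g hg) w hw) hw
    rw [hg w (hperp w hw), add_sub_cancel_left] at h1
    exact (W.smul_mem_iff (mul_ne_zero hR.eps_ne hsw)).1 h1
  have hlvl : lvl F e 2 = Submodule.span F ({x, y} : Set V) := by rw [lvl_two hr, hx, hy]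
  have hym : y ∈ lvl F e 2 := hlvl ▸ Submodule.subset_span (by simp)
  have hgr : ∀ a ∈ P.perp (Submodule.span F ({x, y} : Set V)), ∀ g,
      (∀ v, P.br y v = 0 → act g v = v + (ε * P.br a v) • y) → Graded P act e g := fun a ha g hg =>
    graded_of_eich hfr hr hym (fun v hv => P.refl v a (ha v (hlvl ▸ hv))) hg
  by_cases hb : P.br y w = 0
  · -- then it contains the second point
    rw [← P.perp_perp (Submodule.span F ({x, y} : Set V)), P.mem_perp] at hwn
    push Not at hwn
    obtain ⟨s, hs, hsw⟩ := hwn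
    obtain ⟨g, -, hg⟩ := hR.eich y s hy0 hys (hs y (Submodule.subset_span (by simp)))
    have h1 := W.sub_mem (hinv g (hgr s hs g hg) w hw) hw
    rw [hg w hb, add_sub_cancel_left] at h1
    have hyW := (W.smul_mem_iff (mul_ne_zero hR.eps_ne hsw)).1 h1
    refine hne (Submodule.eq_of_le_of_finrank_eq (Submodule.span_le.2 ?_) ?_).symm
    · rintro z (rfl | rfl) <;> assumption
    · rw [h2, hx, hy, finrank_pair hfr (by simp)]
  rcases hextra with h5 | ⟨ν, hν, hsh⟩
  · have hle : P.perp (Submodule.span F ({x, y} : Set V)) ≤ W ⊔ Submodule.span F {y} := by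
      intro a ha
      obtain ⟨g, hg, hg'⟩ := hR.eich y a hy0 hys (ha y (Submodule.subset_span (by simp)))
      have h1 := hinv g (hgr a ha g hg') w hw
      obtain ⟨c, hc⟩ := hg w
      have h3 : P.br y w • a ∈ W ⊔ Submodule.span F {y} := by
        rw [show P.br y w • a = act g w - w - c • y by rw [hc]; abel]
        exact Submodule.sub_mem _ (Submodule.mem_sup_left (W.sub_mem h1 hw))
          (Submodule.mem_sup_right (Submodule.smul_mem _ _ (Submodule.mem_span_singleton_self _)))
      rw [← inv_smul_smul₀ hb a]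
      exact Submodule.smul_mem _ _ h3
    have hlt := Submodule.finrank_lt_finrank_of_lt (lt_of_le_of_ne hle fun h =>
      hb (h.ge (Submodule.mem_sup_left hw) y (Submodule.subset_span (by simp))))
    have h6 := P.finrank_perp (Submodule.span F ({x, y} : Set V))
    rw [hx, hy, finrank_pair hfr (by simp), ← hx, ← hy] at h6
    have h7 := Submodule.finrank_add_le_finrank_add_finrank W (Submodule.span F {y})
    rw [h2, finrank_span_singleton hy0] at h7
    omega
  · obtain ⟨z, hz⟩ : ∃ z, z = (P.br y w)⁻¹ • w := ⟨_, rfl⟩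
    have hzW : z ∈ W := hz ▸ W.smul_mem _ hw
    have hyz : P.br y z = 1 := by rw [hz, map_smul, smul_eq_mul, inv_mul_cancel₀ hb]
    obtain ⟨g, hg, hg'⟩ := hR.shift y z ν hys (hW.1 z hzW) hyz (hsh y z hys (hW.1 z hzW) hyz)
    have hG : Graded P act e g := by
      have hyr : y ∈ lvl F e r := lvl_mono e hr hym
      refine ⟨fun k hk v hv => ?_, fun v hv => ?_⟩
      · rw [hg' v ((isTS_lvl hfr r).le_perp (lvl_mono e hk hv) y hyr), sub_self]
        exact Submodule.zero_mem _
      · rw [hg' v (hv y hyr), sub_self]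
        exact Submodule.zero_mem _
    have h1 := W.sub_mem (hinv g⁻¹ ((gradedGp P act e).inv_mem hG) z hzW) hzW
    rw [show act g⁻¹ z = z + ν • y by rw [← hg, inv_act_apply, hg], add_sub_cancel_left] at h1
    exact hb (hW.le_perp hw y ((W.smul_mem_iff hν).1 h1))

/-- the stabiliser of the point moves the second one out of every totally singular subspace containing both -/
theorem moved_out {W : Submodule F V} (hW : P.IsTS W) (h0 : e ⟨0, by omega⟩ ∈ W) (h1 : e ⟨1, by omega⟩ ∈ W) :
    ∃ g : X, act g (e ⟨0, by omega⟩) = e ⟨0, by omega⟩ ∧ act g (e ⟨1, by omega⟩) ∉ W := by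
  obtain ⟨x, hx⟩ : ∃ x, x = e ⟨0, by omega⟩ := ⟨_, rfl⟩
  obtain ⟨y, hy⟩ : ∃ y, y = e ⟨1, by omega⟩ := ⟨_, rfl⟩
  obtain ⟨z, hz⟩ : ∃ z, z = f ⟨1, by omega⟩ := ⟨_, rfl⟩
  rw [← hx, ← hy]
  rw [← hx] at h0
  rw [← hy] at h1
  have hzs : P.sing z := hz ▸ hfr.sing_f _
  have hz0 : z ≠ 0 := hz ▸ (frame_ne hfr _).2
  have hzx : P.br z x = 0 := hz ▸ hx ▸ (hfr.br_fe _ _).2 (by simp)
  have hzy : P.br z y ≠ 0 := hz ▸ hy ▸ fun h => (hfr.br_fe _ _).1 h rfl
  by_contra hcon
  push Not at hcon
  rcases hextra with h5 | ⟨ν, hν, hsh⟩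
  · obtain ⟨A, hA⟩ : ∃ A, A = P.perp (Submodule.span F {x} ⊔ Submodule.span F {z}) := ⟨_, rfl⟩
    have hmem : ∀ a ∈ A, P.br x a = 0 ∧ P.br z a = 0 ∧ ∃ t : F, a + t • z ∈ W := by
      intro a ha
      rw [hA, P.perp_sup] at ha
      have hxa := P.mem_perp_singleton.1 (Submodule.mem_inf.1 ha).1
      have hza := P.mem_perp_singleton.1 (Submodule.mem_inf.1 ha).2
      obtain ⟨g, hg, hg'⟩ := hR.eich z a hz0 hzs hza
      have hgx : act g x = x := by rw [hg' x hzx, P.refl x a hxa, mul_zero, zero_smul, add_zero]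
      obtain ⟨c, hc⟩ := hg y
      have h3 := W.smul_mem (P.br z y)⁻¹ (W.sub_mem (hcon g hgx) h1)
      rw [hc, add_assoc, add_sub_cancel_left, smul_add, inv_smul_smul₀ hzy, smul_smul] at h3
      exact ⟨hxa, hza, _, h3⟩
    have hTI : A ≤ P.perp A := by
      intro a ha b hb
      obtain ⟨-, hza, t, ht⟩ := hmem a ha
      obtain ⟨-, hzb, t', ht'⟩ := hmem b hb
      have h3 := hW.le_perp ht _ ht'
      simpa [P.br_smul, P.refl z b hzb, hza, P.sing_self z hzs] using h3
    have h6 := P.finrank_perp A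
    have h7 := Submodule.finrank_mono hTI
    have h8 := P.finrank_perp (Submodule.span F {x} ⊔ Submodule.span F {z})
    rw [← hA] at h8
    have h9 := Submodule.finrank_add_le_finrank_add_finrank (Submodule.span F {x}) (Submodule.span F {z})
    rw [finrank_span_singleton hz0, finrank_span_singleton (hx ▸ (frame_ne hfr _).1 : x ≠ 0)] at h9
    omega
  · obtain ⟨w, hw⟩ : ∃ w, w = (P.br z y)⁻¹ • y := ⟨_, rfl⟩
    have hwW : w ∈ W := hw ▸ W.smul_mem _ h1
    have hzw : P.br z w = 1 := by rw [hw, map_smul, smul_eq_mul, inv_mul_cancel₀ hzy]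
    obtain ⟨g, hg, hg'⟩ := hR.shift z w ν hzs (hW.1 w hwW) hzw (hsh z w hzs (hW.1 w hwW) hzw)
    have hgx : act g⁻¹ x = x := by
      conv_lhs => rw [← hg' x hzx]
      exact inv_act_apply g x
    have h3 : act g⁻¹ w ∈ W := by
      rw [hw, map_smul]
      exact W.smul_mem _ (hcon _ hgx)
    have h4 := W.sub_mem h3 hwW
    rw [show act g⁻¹ w = w + ν • z by rw [← hg, inv_act_apply, hg], add_sub_cancel_left] at h4
    exact hzy (hW.le_perp h1 z ((W.smul_mem_iff hν).1 h4))

variable {G : Type*} [Group G] [Finite G] [IsSimpleGroup G] (π : X →* G) (hπ : Function.Surjective π)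
  (hker : π.ker ≤ Subgroup.center X) (p : ℕ) [Fact p.Prime] [CharP F p]

include hπ hker

/-- isometry groups with enough unipotent elements whose automorphisms come from the polar space -/
theorem split_polar
    (hsemi : ∀ β : MulAut G, ∃ (σ : F ≃+* F) (S : V → V), Function.Injective S ∧
      (∀ u v, S (u + v) = S u + S v) ∧ (∀ (c : F) v, S (c • v) = σ c • S v) ∧
      (∀ v, P.sing v → P.sing (S v)) ∧ (∀ u v, P.br u v = 0 → P.br (S u) (S v) = 0) ∧
      ∀ g, ∃ g', π g' = β (π g) ∧ ∀ v, act g' (S v) = S (act g v)) : Split p G := by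
  letI := subAct act
  obtain ⟨x, hx⟩ : ∃ x, x = e ⟨0, by omega⟩ := ⟨_, rfl⟩
  obtain ⟨y, hy⟩ : ∃ y, y = e ⟨1, by omega⟩ := ⟨_, rfl⟩
  have hx0 : x ≠ 0 := hx ▸ (frame_ne hfr _).1
  have hy0 : y ≠ 0 := hy ▸ (frame_ne hfr _).1
  have hxs : P.sing x := hx ▸ hfr.sing_e _
  have hys : P.sing y := hy ▸ hfr.sing_e _
  have hxy : P.br x y = 0 := hx ▸ hy ▸ hfr.br_ee _ _
  have hd3 : 3 ≤ finrank F V := by omega
  obtain ⟨L, hL⟩ : ∃ L, L = Submodule.span F ({x} : Set V) := ⟨_, rfl⟩
  obtain ⟨E, hE⟩ : ∃ E, E = Submodule.span F ({x, y} : Set V) := ⟨_, rfl⟩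
  have hsmul : ∀ (g : X) (W : Submodule F V), g • W = W.map (act g : V →ₗ[F] V) := fun _ _ => rfl
  have hpair : ∀ t ∈ ({x, y} : Set V), P.sing t ∧ t ≠ 0 := by
    rintro t (rfl | rfl) <;> exact ⟨by assumption, by assumption⟩
  have hone : ∀ t ∈ ({x} : Set V), P.sing t ∧ t ≠ 0 := by
    rintro t rfl
    exact ⟨hxs, hx0⟩
  have hE2 : finrank F E = 2 := by rw [hE, hx, hy]; exact finrank_pair hfr (by simp)
  have hETS : P.IsTS E := by
    rw [hE]
    refine P.isTS_span (fun t ht => (hpair t ht).1) ?_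
    rintro a (rfl | rfl) b (rfl | rfl)
    exacts [P.sing_self _ hxs, hxy, P.refl _ _ hxy, P.sing_self _ hys]
  -- the Sylow subgroup
  have hpg : IsPGroup p ↥((gradedGp P act e).map π) := by
    rintro ⟨_, g, hg, rfl⟩
    obtain ⟨m, hm⟩ := graded_pow_eq_one hR hg p
    exact ⟨m, Subtype.ext (by rw [SubgroupClass.coe_pow, ← map_pow, hm, map_one, Subgroup.coe_one])⟩
  obtain ⟨U, hU⟩ := hpg.exists_le_sylow
  have hgx : ∀ g, Graded P act e g → g • L = L := fun g hg => by
    have h1 := hg.1 1 (by omega) x (hx ▸ mem_lvl e (show (0 : ℕ) < 1 by omega))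
    rw [show (1 : ℕ) - 1 = 0 from rfl, lvl_zero, Submodule.mem_bot, sub_eq_zero] at h1
    rw [hL, subAct_span act g x, h1]
  have hgE : ∀ g, Graded P act e g → g • E = E := fun g hg => by
    have h2 : lvl F e 2 = E := by rw [hE, hx, hy, lvl_two hr]
    refine Submodule.eq_of_le_of_finrank_eq ?_ ?_
    · rw [hsmul, Submodule.map_le_iff_le_comap]
      intro v hv
      have h3 := lvl_mono e (show 2 - 1 ≤ 2 by omega) (hg.1 2 hr v (h2 ▸ hv))
      rw [h2] at h3
      simpa using E.add_mem h3 hv
    · exact LinearEquiv.finrank_map_eq (act g) E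
  have hk1 : ∀ k ∈ π.ker, ∀ T : Set V, (∀ t ∈ T, P.sing t ∧ t ≠ 0) → k • Submodule.span F T = Submodule.span F T :=
    fun k hk T hT => central_span hR hd3 (hker hk) hT
  have huL : ∀ v : V, P.sing v → v ≠ 0 → (∀ z ∈ gradedGp P act e, z • Submodule.span F {v} = Submodule.span F {v}) →
      Submodule.span F {v} = L := fun v hv hv0 h => by
    rw [hL]
    refine only_fixed hR hd3 hxs hx0 hv0 fun k hk => ?_
    rw [← subAct_span act k v]
    exact h k (graded_of_pointTrivial hfr (by omega) (hx ▸ hk))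
  have huE : ∀ W : Submodule F V, P.IsTS W → finrank F W = 2 → (∀ z ∈ gradedGp P act e, z • W = W) → W = E :=
    fun W hW h2 h => by
    rw [hE, hx, hy]
    exact plane_unique hR hfr hr hd hextra hW h2 fun g hg w hw => (h g hg).le (Submodule.mem_map_of_mem hw)
  have hUL : ∀ g, π g ∈ (U : Subgroup G) → g • L = L := by
    refine fix_of_unique π hπ U.isPGroup' (gradedGp P act e) hU L hgx (fun k hk => ?_) fun g _ h => ?_
    · rw [hL]
      exact hk1 k hk _ hone
    · rw [hL, subAct_span act g x] at h ⊢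
      rw [huL _ ((hR.sing_act g x).2 hxs) (fun h0 => hx0 ((act g).map_eq_zero_iff.1 h0)) h, hL]
  have hTSmap : ∀ (g : X) (W : Submodule F V), P.IsTS W → P.IsTS (g • W) := fun g W hW => by
    refine ⟨?_, ?_⟩
    · rintro _ ⟨v, hv, rfl⟩
      exact (hR.sing_act g v).2 (hW.1 v hv)
    · rintro _ ⟨v, hv, rfl⟩ _ ⟨v', hv', rfl⟩
      exact (hR.br_act g v' v).trans (hW.le_perp hv v' hv')
  have hUE : ∀ g, π g ∈ (U : Subgroup G) → g • E = E := by
    refine fix_of_unique π hπ U.isPGroup' (gradedGp P act e) hU E hgE (fun k hk => ?_) fun g _ h => ?_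
    · rw [hE]
      exact hk1 k hk _ hpair
    · exact huE _ (hTSmap g E hETS) ((LinearEquiv.finrank_map_eq (act g) E).trans hE2) h
  obtain ⟨R₁, hR₁⟩ : ∃ R₁, R₁ = (MulAction.stabilizer X L).map π := ⟨_, rfl⟩
  obtain ⟨R₂, hR₂⟩ : ∃ R₂, R₂ = (MulAction.stabilizer X E).map π := ⟨_, rfl⟩
  have hUR : ∀ W : Submodule F V, (∀ g, π g ∈ (U : Subgroup G) → g • W = W) →
      (U : Subgroup G) ≤ (MulAction.stabilizer X W).map π := fun W h u hu => by
    obtain ⟨g, rfl⟩ := hπ u
    exact ⟨g, h g hu, rfl⟩
  have hall : ∀ W : Submodule F V, (∀ k ∈ π.ker, k • W = W) → (MulAction.stabilizer X W).map π = ⊤ →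
      ∀ g : X, g • W = W := fun W hk htop g => by
    obtain ⟨s, hs, he⟩ := htop.ge (Subgroup.mem_top (π g))
    rw [show g = s * (s⁻¹ * g) by group, mul_smul,
      hk _ (by rw [MonoidHom.mem_ker, map_mul, map_inv, he, inv_mul_cancel])]
    exact hs
  refine ⟨U, R₁, R₂, hR₁ ▸ hUR L hUL, hR₂ ▸ hUR E hUE, ?_, ?_, ?_, fun β hβ => ?_⟩
  · -- some element moves the point
    intro htop
    obtain ⟨g, -, hg⟩ := hR.eich y (f ⟨0, by omega⟩) hy0 hys (by rw [hy, hfr.br_ef, if_neg (by simp)])
    have h1 := hall L (fun k hk => hL ▸ hk1 k hk _ hone) (hR₁ ▸ htop) g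
    rw [hL, subAct_span act g x, hg x (P.refl _ _ hxy)] at h1
    obtain ⟨c, hc⟩ := Submodule.mem_span_singleton.1 (h1.le (Submodule.mem_span_singleton_self _))
    have h2 := congrArg (P.br (f ⟨1, by omega⟩)) hc
    rw [map_smul, map_add, map_smul, hx, (hfr.br_fe _ _).2 (by simp), smul_zero, zero_add, smul_eq_mul] at h2
    rcases mul_eq_zero.1 h2.symm with h | h
    · exact (mul_ne_zero hR.eps_ne fun h0 => (hfr.br_fe _ _).1 h0 rfl) h
    · exact (hfr.br_fe _ _).1 (hy ▸ h) rfl
  · intro htop
    obtain ⟨g, -, hg⟩ := moved_out hR hfr hr hd hextra hETS (hx ▸ hE ▸ Submodule.subset_span (by simp))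
      (hy ▸ hE ▸ Submodule.subset_span (by simp))
    exact hg ((hall E (fun k hk => hE ▸ hk1 k hk _ hpair) (hR₂ ▸ htop) g).le
      (Submodule.mem_map_of_mem (hy ▸ hE ▸ Submodule.subset_span (by simp))))
  · obtain ⟨M, hM⟩ : ∃ M, M = R₁ ⊔ R₂ := ⟨_, rfl⟩
    rw [← hM]
    have h1M : ∀ g, g • L = L → g ∈ M.comap π := fun g hg => hM ▸ Subgroup.mem_sup_left (hR₁ ▸ ⟨g, hg, rfl⟩)
    have hxf : P.br x (f ⟨0, by omega⟩) ≠ 0 := by rw [hx, hfr.br_ef, if_pos rfl]; exact one_ne_zero
    by_contra hne
    have hA : ∀ g ∈ M.comap π, P.br x (act g x) = 0 := fun g hg => by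
      by_contra h
      exact hne (eq_top_of_nonperp hR hd3 π hπ hker hxs hx0 (hfr.sing_f _) hxf
        (fun k hk => h1M k (hgx k (graded_of_pointTrivial hfr (by omega) (hx ▸ hk)))) hg h)
    obtain ⟨W, hW⟩ : ∃ W : Submodule F V, W = Submodule.span F {v | ∃ g ∈ M.comap π, act g x = v} := ⟨_, rfl⟩
    have hxW : x ∈ W := hW ▸ Submodule.subset_span ⟨1, one_mem _, by simp⟩
    have hTS : P.IsTS W := by
      rw [hW]
      refine P.isTS_span ?_ ?_
      · rintro _ ⟨g, -, rfl⟩
        exact (hR.sing_act g x).2 hxs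
      · rintro _ ⟨g, hg, rfl⟩ _ ⟨h, hh, rfl⟩
        rw [← hR.br_act g⁻¹, inv_act_apply, ← LinearEquiv.mul_apply, ← map_mul]
        exact hA _ (mul_mem (inv_mem hg) hh)
    have hstab : ∀ m ∈ M.comap π, ∀ w ∈ W, act m w ∈ W := fun m hm w hw => by
      have hle : W ≤ W.comap (act m : V →ₗ[F] V) := by
        conv_lhs => rw [hW]
        refine Submodule.span_le.2 ?_
        rintro _ ⟨g, hg, rfl⟩
        exact hW ▸ Submodule.subset_span ⟨m * g, mul_mem hm hg, by rw [map_mul]; rfl⟩
      exact hle hw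
    -- the second point lies in the span of the orbit
    obtain ⟨g, -, hg⟩ := hR.eich y (f ⟨0, by omega⟩) hy0 hys (by rw [hy, hfr.br_ef, if_neg (by simp)])
    have hgy : act g y = y := by
      rw [hg y (P.sing_self _ hys), hy, (hfr.br_fe _ _).2 (by simp), mul_zero, zero_smul, add_zero]
    have hgxv : act g x = x + (ε * P.br (f ⟨0, by omega⟩) x) • y := hg x (P.refl _ _ hxy)
    have hgM : g ∈ M.comap π := by
      refine hM ▸ Subgroup.mem_sup_right (hR₂ ▸ ⟨g, ?_, rfl⟩)
      refine MulAction.mem_stabilizer_iff.2 (Submodule.eq_of_le_of_finrank_eq ?_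
        (LinearEquiv.finrank_map_eq (act g) E))
      conv_lhs => rw [hsmul, hE, Submodule.map_span]
      refine Submodule.span_le.2 ?_
      rintro _ ⟨v, hv | hv, rfl⟩
      · subst hv
        show act g v ∈ E
        rw [hgxv, hE]
        exact Submodule.add_mem _ (Submodule.subset_span (by simp)) (Submodule.smul_mem _ _ (Submodule.subset_span (by simp)))
      · rw [Set.mem_singleton_iff] at hv
        subst hv
        show act g v ∈ E
        rw [hgy, hE]
        exact Submodule.subset_span (by simp)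
    have hyW : y ∈ W := by
      have h := W.sub_mem (hstab g hgM x hxW) hxW
      rw [hgxv, add_sub_cancel_left] at h
      exact (W.smul_mem_iff (mul_ne_zero hR.eps_ne fun h0 => hxf (P.refl _ _ h0))).1 h
    obtain ⟨k, hk, hk'⟩ := moved_out hR hfr hr hd hextra hTS (hx ▸ hxW) (hy ▸ hyW)
    exact hk' (hy ▸ hstab k (h1M k (by rw [hL, subAct_span act k x, hx, hk])) y hyW)
  -- automorphisms fixing the Sylow subgroup fix the point and the line
  obtain ⟨σ, S, hSi, hSa, hSs, hSsing, hSbr, hlift⟩ := hsemi β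
  obtain ⟨Φ, hΦ⟩ : ∃ Φ : Submodule F V → Submodule F V, Φ = fun W : Submodule F V => Submodule.span F (S '' (W : Set V)) :=
    ⟨_, rfl⟩
  have hS0 : S 0 = 0 := by
    have h := hSa 0 0
    rw [add_zero] at h
    exact add_eq_left.1 h.symm
  have hΦspan : ∀ T : Set V, Φ (Submodule.span F T) = Submodule.span F (S '' T) := fun T => by
    rw [hΦ]
    refine le_antisymm (Submodule.span_le.2 ?_) (Submodule.span_mono (Set.image_mono Submodule.subset_span))
    rintro _ ⟨v, hv, rfl⟩
    induction hv using Submodule.span_induction with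
    | mem t ht => exact Submodule.subset_span ⟨t, ht, rfl⟩
    | zero => rw [hS0]; exact Submodule.zero_mem _
    | add a b _ _ ha hb => rw [hSa]; exact Submodule.add_mem _ ha hb
    | smul c a _ ha => rw [hSs]; exact Submodule.smul_mem _ _ ha
  have hequ : ∀ g, ∃ g', π g' = β (π g) ∧ ∀ W, g' • Φ W = Φ (g • W) := fun g => by
    obtain ⟨g', hg', hc⟩ := hlift g
    refine ⟨g', hg', fun W => ?_⟩
    simp only [hsmul, hΦ, Submodule.map_span, Submodule.map_coe, Set.image_image]
    congr 1
    exact Set.image_congr fun v _ => hc v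
  have hSne : ∀ t, t ≠ 0 → S t ≠ 0 := fun t ht h => ht (hSi (h.trans hS0.symm))
  have hfix : ∀ (T : Set V), (∀ t ∈ T, P.sing t ∧ t ≠ 0) →
      (∀ g, π g ∈ (U : Subgroup G) → g • Submodule.span F T = Submodule.span F T) →
      ∀ z ∈ gradedGp P act e, z • Submodule.span F (S '' T) = Submodule.span F (S '' T) := by
    intro T hT h z hz
    rw [← hΦspan]
    refine fix_image π hπ β Φ hequ hβ _ (fun k hk => ?_) h z (hU ⟨z, hz, rfl⟩)
    rw [hΦspan]
    refine hk1 k hk _ ?_
    rintro _ ⟨t, ht, rfl⟩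
    exact ⟨hSsing t (hT t ht).1, hSne t (hT t ht).2⟩
  have hΦL : Φ L = L := by
    conv_lhs => rw [hL, hΦspan, Set.image_singleton]
    refine huL _ (hSsing x hxs) (hSne x hx0) ?_
    have h := hfix _ hone (hL ▸ hUL)
    rwa [Set.image_singleton] at h
  have hΦE : Φ E = E := by
    conv_lhs => rw [hE, hΦspan]
    have hTS : P.IsTS (Submodule.span F (S '' {x, y})) := by
      refine P.isTS_span ?_ ?_
      · rintro _ ⟨t, ht, rfl⟩
        exact hSsing t (hpair t ht).1
      · rintro _ ⟨t, ht, rfl⟩ _ ⟨t', ht', rfl⟩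
        exact hSbr t t' (hETS.le_perp (hE ▸ Submodule.subset_span ht') t (hE ▸ Submodule.subset_span ht))
    refine huE _ hTS ?_ (hfix _ hpair (hE ▸ hUE))
    have hli : LinearIndependent F ![S x, S y] := by
      rw [LinearIndependent.pair_iff]
      intro s t hst
      obtain ⟨s', rfl⟩ := σ.surjective s
      obtain ⟨t', rfl⟩ := σ.surjective t
      rw [← hSs, ← hSs, ← hSa, ← hS0] at hst
      have hli : LinearIndependent F (e ∘ ![(⟨0, by omega⟩ : Fin r), ⟨1, by omega⟩]) := by
        refine (hfr.linearIndependent_sum.comp Sum.inl Sum.inl_injective).comp _ ?_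
        intro a b h
        fin_cases a <;> fin_cases b <;> simp_all
      have h := Fintype.linearIndependent_iff.1 hli ![s', t'] (by
        simpa [hx, hy, Fin.sum_univ_two] using hSi hst)
      exact ⟨by simpa using h 0, by simpa using h 1⟩
    have h := finrank_span_eq_card hli
    rw [Fintype.card_fin, Matrix.range_cons_cons_empty] at h
    rwa [Set.image_pair]
  refine ⟨map_eq_of_le β ?_, map_eq_of_le β ?_⟩
  · rw [hR₁]
    exact (map_stab π β Φ hequ L).trans (by rw [hΦL])
  · rw [hR₂]
    exact (map_stab π β Φ hequ E).trans (by rw [hΦE])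

end Frame

section Line

variable {r : ℕ} {e f : Fin r → V}

/-- isometry groups of three-dimensional spaces: the stabiliser of the point is the normalizer -/
theorem one_polar (hR : Rich P act ε) (hfr : P.IsFrame e f) (hr : r = 1) (hd : finrank F V = 3) {G : Type*} [Group G]
    [Finite G] [IsSimpleGroup G] (π : X →* G) (hπ : Function.Surjective π) (hker : π.ker ≤ Subgroup.center X)
    (p : ℕ) [Fact p.Prime] [CharP F p] : One p G := by
  letI := subAct act
  subst hr
  obtain ⟨x, hx⟩ : ∃ x, x = e 0 := ⟨_, rfl⟩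
  have hx0 : x ≠ 0 := hx ▸ (frame_ne hfr _).1
  have hxs : P.sing x := hx ▸ hfr.sing_e _
  have hfs : P.sing (f 0) := hfr.sing_f _
  have hf0 : f 0 ≠ 0 := (frame_ne hfr _).2
  have hxf : P.br x (f 0) ≠ 0 := by rw [hx, hfr.br_ef, if_pos rfl]; exact one_ne_zero
  obtain ⟨L, hL⟩ : ∃ L, L = Submodule.span F ({x} : Set V) := ⟨_, rfl⟩
  have hdp : finrank F (P.perp L) = 2 := by
    have := finrank_perp_point (P := P) _ hx0
    rw [← hL] at this
    omega
  obtain ⟨a, ha, han⟩ := exists_not_mem_span hdp.ge x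
  have hax : P.br x a = 0 := P.mem_perp_singleton.1 (hL ▸ ha)
  have hl1 : lvl F e 1 = L := by rw [hL, hx, lvl_one (show 0 < 1 by omega)]; rfl
  have hpg : IsPGroup p ↥((gradedGp P act e).map π) := by
    rintro ⟨_, g, hg, rfl⟩
    obtain ⟨m, hm⟩ := graded_pow_eq_one hR hg p
    exact ⟨m, Subtype.ext (by rw [SubgroupClass.coe_pow, ← map_pow, hm, map_one, Subgroup.coe_one])⟩
  obtain ⟨U, hU⟩ := hpg.exists_le_sylow
  have hgr : ∀ g, PointTrivial P act x g → Graded P act e g := fun g hg =>
    graded_of_pointTrivial hfr (by omega) (by rw [hx] at hg; exact hg)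
  have hgx : ∀ g, Graded P act e g → g • L = L := fun g hg => by
    have h1 := hg.1 1 le_rfl x (hl1 ▸ hL ▸ Submodule.mem_span_singleton_self x)
    rw [show (1 : ℕ) - 1 = 0 from rfl, lvl_zero, Submodule.mem_bot, sub_eq_zero] at h1
    rw [hL, subAct_span act g x, h1]
  have hk1 : ∀ k ∈ π.ker, k • L = L := fun k hk => by
    rw [hL]
    refine central_span hR (by omega) (hker hk) ?_
    rintro t rfl
    exact ⟨hxs, hx0⟩
  have hUL : ∀ g, π g ∈ (U : Subgroup G) → g • L = L := by
    refine fix_of_unique π hπ U.isPGroup' (gradedGp P act e) hU L hgx hk1 fun g _ h => ?_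
    rw [hL, subAct_span act g x]
    refine only_fixed hR (by omega) hxs hx0 (fun h0 => hx0 ((act g).map_eq_zero_iff.1 h0)) fun k hk => ?_
    rw [← subAct_span act k]
    have h1 := h k (hgr k hk)
    rwa [hL, subAct_span act g x] at h1
  -- the stabiliser
  obtain ⟨R, hR'⟩ : ∃ R, R = (MulAction.stabilizer X L).map π := ⟨_, rfl⟩
  have hRne : R ≠ ⊤ := by
    intro htop
    have h2 : 2 ≤ finrank F (P.perp (Submodule.span F {f 0})) := by
      have := finrank_perp_point (P := P) _ hf0
      omega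
    obtain ⟨b, hb, hbn⟩ := exists_not_mem_span h2 (f 0)
    obtain ⟨g, hg', -⟩ := hR.eich _ b hf0 hfs (P.mem_perp_singleton.1 hb)
    obtain ⟨s, hs, he⟩ := (hR' ▸ htop : (MulAction.stabilizer X L).map π = ⊤).ge (Subgroup.mem_top (π g))
    have h1 : g • L = L := by
      rw [show g = s * (s⁻¹ * g) by group, mul_smul,
        hk1 _ (by rw [MonoidHom.mem_ker, map_mul, map_inv, he, inv_mul_cancel])]
      exact hs
    rw [hL, subAct_span act g x] at h1
    exact moved_nonperp hfs (P.mem_perp_singleton.1 hb) hbn (fun h => hxf (P.refl _ _ h)) hx0 hg' h1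
  have hUR : (U : Subgroup G) ≤ R := fun u hu => by
    obtain ⟨g, rfl⟩ := hπ u
    exact hR' ▸ ⟨g, hUL g hu, rfl⟩
  have hsc : ∀ g : X, g • L = L → ∃ α β γ : F, act g x = α • x ∧ act g a = β • a + γ • x := by
    intro g hg
    have h1 : act g x ∈ L := hg.le (Submodule.mem_map_of_mem (hL ▸ Submodule.mem_span_singleton_self x))
    rw [hL, Submodule.mem_span_singleton] at h1
    obtain ⟨α, hα⟩ := h1
    have h2 : act g a ∈ P.perp L := by
      intro w hw
      obtain ⟨v, hv, rfl⟩ := hg.ge hw
      exact (hR.br_act g v a).trans (ha v hv)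
    have hspan : P.perp L = Submodule.span F ({a, x} : Set V) := by
      refine (Submodule.eq_of_le_of_finrank_le (Submodule.span_le.2 ?_) ?_).symm
      · rintro v (rfl | rfl)
        exacts [ha, hL ▸ P.mem_perp_singleton.2 (P.sing_self _ hxs)]
      · have hli : LinearIndependent F ![a, x] := by
          rw [LinearIndependent.pair_symm_iff, LinearIndependent.pair_iff' hx0]
          exact fun c h => han c h.symm
        have h := finrank_span_eq_card hli
        rw [Fintype.card_fin, Matrix.range_cons_cons_empty] at h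
        omega
    rw [hspan, Submodule.mem_span_pair] at h2
    obtain ⟨β, γ, h⟩ := h2
    exact ⟨α, β, γ, hα.symm, h.symm⟩
  have hRN : R ≤ Subgroup.normalizer ((U : Subgroup G) : Set G) := by
    have key : ∀ s, s • L = L → ∀ u, π u ∈ (U : Subgroup G) → π (s * u * s⁻¹) ∈ (U : Subgroup G) := by
      intro s hs u hu
      have hk : Graded P act e (s * u * (u * s)⁻¹) := by
        obtain ⟨α, β, γ, hsx, hsa⟩ := hsc s hs
        obtain ⟨α', β', γ', hux, hua⟩ := hsc u (hUL u hu)
        have hstab : (u * s)⁻¹ • L = L := by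
          refine inv_smul_eq_iff.2 ?_
          rw [mul_smul, hs, hUL u hu]
        have hk' : ∀ v, act (s * u * (u * s)⁻¹) v = act (s * u) (act (u * s)⁻¹ v) := fun v => by rw [map_mul]; rfl
        have hv' : ∀ v, v = act (u * s) (act (u * s)⁻¹ v) := fun v => (act_inv_apply (u * s) v).symm
        refine ⟨fun k hk v hv => ?_, fun v hv => ?_⟩
        · rcases Nat.le_one_iff_eq_zero_or_eq_one.1 hk with rfl | rfl
          · rw [lvl_zero, Submodule.mem_bot] at hv
            rw [hv, map_zero, sub_zero]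
            exact Submodule.zero_mem _
          · rw [hl1] at hv
            have h1 : act (u * s)⁻¹ v ∈ L := hstab.le (Submodule.mem_map_of_mem hv)
            rw [hL, Submodule.mem_span_singleton] at h1
            obtain ⟨c, hc⟩ := h1
            rw [show (1 : ℕ) - 1 = 0 from rfl, lvl_zero, Submodule.mem_bot, hk', sub_eq_zero]
            conv_rhs => rw [hv' v]
            rw [← hc]
            simp only [map_mul, LinearEquiv.mul_apply, map_smul, hsx, hux, smul_smul]
            congr 1
            ring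
        · rw [hl1] at hv ⊢
          have h1 : act (u * s)⁻¹ v ∈ P.perp L := fun w hw => by
            obtain ⟨w', hw', rfl⟩ := hstab.ge hw
            exact (hR.br_act _ w' v).trans (hv w' hw')
          have h2 : P.perp L = Submodule.span F ({a, x} : Set V) := by
            refine (Submodule.eq_of_le_of_finrank_le (Submodule.span_le.2 ?_) ?_).symm
            · rintro t (rfl | rfl)
              exacts [ha, hL ▸ P.mem_perp_singleton.2 (P.sing_self _ hxs)]
            · have hli : LinearIndependent F ![a, x] := by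
                rw [LinearIndependent.pair_symm_iff, LinearIndependent.pair_iff' hx0]
                exact fun c h => han c h.symm
              have h := finrank_span_eq_card hli
              rw [Fintype.card_fin, Matrix.range_cons_cons_empty] at h
              omega
          rw [h2, Submodule.mem_span_pair] at h1
          obtain ⟨c, d, hcd⟩ := h1
          rw [hk']
          obtain ⟨w, hw⟩ : ∃ w, w = act (u * s)⁻¹ v := ⟨_, rfl⟩
          rw [← hw] at hcd ⊢
          rw [show v = act (u * s) w by rw [hw, ← hv']]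
          rw [← hcd, hL, Submodule.mem_span_singleton]
          refine ⟨c * β' * γ + c * γ' * α - (c * β * γ' + c * γ * α'), ?_⟩
          simp only [map_mul, LinearEquiv.mul_apply, map_smul, map_add, hsx, hux, hsa, hua]
          module
      have h3 := mul_mem (hU ⟨_, hk, rfl⟩) hu
      rwa [← map_mul, show s * u * (u * s)⁻¹ * u = s * u * s⁻¹ by group] at h3
    rintro _ hr
    rw [hR'] at hr
    obtain ⟨s, hs, rfl⟩ := hr
    refine Subgroup.mem_normalizer_iff.2 fun v => ?_
    obtain ⟨u, rfl⟩ := hπ v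
    rw [← map_inv, ← map_mul, ← map_mul]
    refine ⟨key s hs u, fun h => ?_⟩
    have := key s⁻¹ (inv_smul_eq_iff.2 (Eq.symm hs)) _ h
    rwa [show s⁻¹ * (s * u * s⁻¹) * s⁻¹⁻¹ = u by group] at this
  have hQ : ∀ g, PointTrivial P act x g → π g ∈ (U : Subgroup G) := fun g hg => hU ⟨g, hgr g hg, rfl⟩
  refine ⟨U, fun htop => ?_, fun H hH hne => le_antisymm ?_ hH⟩
  · rcases (Subgroup.normalizer_eq_top_iff.1 htop).eq_bot_or_eq_top with h | h
    · obtain ⟨g, hg, hg'⟩ := hR.eich x a hx0 hxs hax
      refine eich_not_central hR hxs hx0 hax han (by omega) hfs hxf hg (hker ?_)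
      rw [MonoidHom.mem_ker]
      exact Subgroup.mem_bot.1 (h ▸ hQ g (pointTrivial_of_eich hxs hax hg'))
    · exact hRne (top_le_iff.1 (h ▸ hUR))
  · refine fun h hh => hRN ?_
    obtain ⟨g, rfl⟩ := hπ h
    have hy : P.br x (act g x) = 0 := by
      by_contra hxy
      exact hne (eq_top_of_nonperp hR (by omega) π hπ hker hxs hx0 hfs hxf
        (fun k hk => hH (Subgroup.le_normalizer (hQ k hk))) (h := g) hh hxy)
    refine hR' ▸ ⟨g, MulAction.mem_stabilizer_iff.2 ?_, rfl⟩
    have hTS : P.IsTS (Submodule.span F ({act g x, x} : Set V)) := by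
      refine P.isTS_span ?_ ?_
      · rintro t (rfl | rfl)
        exacts [(hR.sing_act g x).2 hxs, hxs]
      · rintro s (rfl | rfl) t (rfl | rfl)
        exacts [P.sing_self _ ((hR.sing_act g x).2 hxs), P.refl _ _ hy, hy, P.sing_self _ hxs]
    have h1 := hTS.two_mul_finrank_le
    rw [hL, subAct_span act g x]
    refine (span_eq_iff (fun h0 => hx0 ((act g).map_eq_zero_iff.1 h0))).2 ?_
    by_contra hn
    push Not at hn
    have hli : LinearIndependent F ![act g x, x] := by
      rw [LinearIndependent.pair_symm_iff, LinearIndependent.pair_iff' hx0]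
      intro c h0
      exact hn c (fun hc => hx0 ((act g).map_eq_zero_iff.1 (by rw [← h0, hc, zero_smul]))) h0.symm
    have h := finrank_span_eq_card hli
    rw [Fintype.card_fin, Matrix.range_cons_cons_empty] at h
    omega

end Line

end CfsgLib.Lie.PMin
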