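import Cfsg.Agent.Lib.Lie.PMin.Core
import Cfsg.Agent.Lib.Lie.SylowOver.Tits

/-!
# Overgroups of the Sylow 2-subgroup of the Tits group
-/

set_option autoImplicit false
set_option maxRecDepth 100000
set_option maxHeartbeats 1000000

namespace CfsgLib.Lie.PMin.Tits

open Cfsg.Lie CfsgLib.Lie.Chev CfsgLib.Lie.Chev.Tits CfsgLib.Lie CfsgLib.Lie.CentralTwo.Tits
open CfsgLib.Lie.SylowOver.Tits
open scoped MatrixGroups

attribute [local instance] CentralTwo.Tits.finite_Γ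

attribute [local irreducible] collect tT gen flat cjW kind TF4.C chevF4 swW mapTab inX oddGo ins tw vw

/-- the overgroup of an orbit -/
noncomputable def RO (o : Fin orbGraphF4.no) : Subgroup ↥(commutator ↥Γ) :=
  Subgroup.closure ((R0 : Set ↥(commutator ↥Γ)) ∪ {nT o})

theorem R0_le_RO (o : Fin orbGraphF4.no) : R0 ≤ RO o := fun _ hx => Subgroup.subset_closure (Or.inl hx)

theorem nT_mem_RO (o : Fin orbGraphF4.no) : nT o ∈ RO o := Subgroup.subset_closure (Or.inr rfl)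

theorem RO_le {o : Fin orbGraphF4.no} {M : Subgroup ↥(commutator ↥Γ)} (hM : R0 ≤ M) (h : nT o ∈ M) :
    RO o ≤ M := by
  rw [RO, Subgroup.closure_le]
  rintro x (hx | rfl)
  exacts [hM hx, h]

/-- the normaliser of the even part outside an orbit, in the derived group -/
noncomputable def NO (o : Fin orbGraphF4.no) : Subgroup ↥(commutator ↥Γ) :=
  (Subgroup.normalizer (CentralTwo.Tits.Q o : Set ↥Γ)).subgroupOf (commutator ↥Γ)

theorem RO_le_NO (o : Fin orbGraphF4.no) : RO o ≤ NO o := by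
  refine RO_le (fun x hx => ?_) ?_
  · exact Subgroup.mem_subgroupOf.2 (mem_normalizer_Q fun y hy => B_conj_Q o (mem_R0.1 hx) hy)
  · refine Subgroup.mem_subgroupOf.2 (mem_normalizer_Q fun y hy => ?_)
    show nΓ o * y * (nΓ o)⁻¹ ∈ _
    rw [nΓ_inv]
    exact n_conj_Q o hy

theorem nT_not_mem (o : Fin orbGraphF4.no) : nT (oth o) ∉ RO o := by
  intro h
  have h1 : nΓ (oth o) ∈ Subgroup.normalizer (CentralTwo.Tits.Q o : Set ↥Γ) :=
    Subgroup.mem_subgroupOf.1 (RO_le_NO o h)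
  rcases normalizer_cases o h1 with hB | ⟨b, hb, c, hc, e⟩
  · exact nΓ_not_mem_B _ hB
  · have he := BN.eqv_of_mem_cell twGp.bnPair (nΓ_mem_N o) (nΓ_mem_N (oth o))
      (x := nΓ (oth o)) ((BN.mem_cell _).2 ⟨b, hb, c, hc, e⟩) (BN.mem_cell_self _ _)
    exact oth_ne o (twGp.sGp_injective (twGp.bnPair.inj _ (nΓ_mem_S o) _ (nΓ_mem_S (oth o)) he)).symm

theorem nT_not_mem_R0 (o : Fin orbGraphF4.no) : nT o ∉ R0 := fun h => nΓ_not_mem_B o (mem_R0.1 h)

theorem exists_nT {M : Subgroup ↥(commutator ↥Γ)} (hM : R0 ≤ M) (hne : ¬ M ≤ R0) : ∃ o, nT o ∈ M := by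
  obtain ⟨x, hx, hx'⟩ := SetLike.not_le_iff_exists.1 hne
  obtain ⟨k, hk, o, hg⟩ := exists_alt (x : ↥Γ)
  obtain ⟨b, hb, c, hc, e⟩ := (BN.mem_cell _).1 hg
  match k, hk with
  | 0, _ => exact absurd (mem_R0.2 ((BN.cell_one _).1 hg)) hx'
  | k + 1, hk =>
    have hx1 : (x : ↥Γ) ∈ M.map (commutator ↥Γ).subtype := ⟨x, hx, rfl⟩
    exact ⟨o, nT_mem hM (step hM (k := k) (by omega) o hb hc (by rwa [e] at hx1))⟩

/-- the element of the centre of the Sylow subgroup -/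
noncomputable def z11 : ↥(commutator ↥Γ) :=
  ⟨gΓ 11, gΓ_mem_T (by norm_num) chk_vals.2.2.2.2.2.2.2.2.2.2.2.2.2.2.1⟩

theorem z11_mem : z11 ∈ R0 := mem_R0.2 (mem_B_gΓ (by norm_num))

theorem z11_ne : z11 ≠ 1 := fun h => gΓ_eleven_ne (congrArg Subtype.val h)

theorem z11_comm : ∀ x ∈ R0, z11 * x = x * z11 := fun x hx => by
  refine Subtype.ext (Subtype.ext ?_)
  simp only [z11, Subgroup.coe_mul, gΓ_val (show 11 < 12 by norm_num)]
  exact g11_comm (mem_B.1 (mem_R0.1 hx))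

theorem central_eq {z : ↥(commutator ↥Γ)} (hz : z ∈ R0) (hc : ∀ x ∈ R0, z * x = x * z) :
    z = 1 ∨ z = z11 := by
  have hq : ∀ x ∈ CentralTwo.Tits.Q TF4.o1, (z : ↥Γ) * x * (z : ↥Γ)⁻¹ = x := by
    intro x hx
    have h := congrArg Subtype.val (hc ⟨x, (mem_Q.1 hx).2⟩ (mem_R0.2 (Q_le_B _ hx)))
    rw [mul_inv_eq_iff_eq_mul]
    exact h
  obtain ⟨W, hW, he⟩ := cent_word TF4.o1 (mem_R0.1 hz) hq
  change W ∈ [[], [11]] at hW
  simp only [List.mem_cons, List.not_mem_nil, or_false] at hW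
  rcases hW with rfl | rfl
  · exact Or.inl (Subtype.ext (Subtype.ext (by simpa using he)))
  · refine Or.inr (Subtype.ext (Subtype.ext ?_))
    show ((z : ↥Γ) : GL chevF4.Idx (ZMod 2)) = ((gΓ 11 : ↥Γ) : GL chevF4.Idx (ZMod 2))
    rw [gΓ_val (by norm_num)]
    simpa using he

theorem nT_one_comm : z11 * nT TF4.o1 = nT TF4.o1 * z11 := by
  refine Subtype.ext ?_
  have h := nΓ_conj_gen TF4.o1 (j := 11) (k := 11) (by norm_num) (by norm_num)
    chk_vals.2.2.2.2.2.2.2.1 chk_vals.2.2.1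
  show gΓ 11 * nΓ TF4.o1 = nΓ TF4.o1 * gΓ 11
  conv_lhs => rw [← h]
  rw [mul_assoc, nΓ_sq, mul_one]

theorem nT_zero_comm : ¬ z11 * nT TF4.o0 = nT TF4.o0 * z11 := by
  intro e
  have e' : gΓ 11 * nΓ TF4.o0 = nΓ TF4.o0 * gΓ 11 := congrArg Subtype.val e
  have c11 := nΓ_conj_gen TF4.o0 (j := 11) (k := 10) (by norm_num) (by norm_num)
    chk_vals.2.2.2.2.2.2.2.2.2.1 chk_vals.2.2.2.2.1
  rw [← e', mul_assoc, nΓ_sq, mul_one] at c11
  refine g_not_mem (i := 10) (by norm_num) ?_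
  rw [← gΓ_val (k := 10) (by norm_num), ← c11, gΓ_val (by norm_num)]
  exact g_mem_Ks (by norm_num) (by norm_num)

theorem RO_one_comm : ∀ x ∈ RO TF4.o1, z11 * x = x * z11 := by
  have h : RO TF4.o1 ≤ Subgroup.centralizer {z11} := by
    refine RO_le (fun x hx => ?_) ?_ <;> rw [Subgroup.mem_centralizer_singleton_iff]
    · exact (z11_comm x hx).symm
    · exact nT_one_comm.symm
  exact fun x hx => (Subgroup.mem_centralizer_singleton_iff.1 (h hx)).symm

theorem tits : Split 2 TitsGroup := by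
  haveI : Fact (Nat.Prime 2) := ⟨Nat.prime_two⟩
  haveI : Finite ↥(commutator ↥Γ) := inferInstance
  obtain ⟨U, hU⟩ : ∃ U : Sylow 2 ↥(commutator ↥Γ), (U : Subgroup ↥(commutator ↥Γ)) = R0 := by
    obtain ⟨n, hn⟩ := IsPGroup.iff_card.1 isPGroup_R0
    refine ⟨Sylow.ofCard R0 (hn.trans ?_), rfl⟩
    rw [← R0.card_mul_index, hn, Nat.factorization_mul (pow_ne_zero _ two_ne_zero) Subgroup.index_ne_zero_of_finite,
      Finsupp.add_apply, Nat.factorization_eq_zero_of_not_dvd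
        (fun h => Nat.not_even_iff_odd.2 R0_index (even_iff_two_dvd.2 h)),
      Nat.prime_two.factorization_pow, Finsupp.single_eq_same, add_zero]
  have e0 : oth TF4.o0 = TF4.o1 := by decide +kernel
  have e1 : oth TF4.o1 = TF4.o0 := by decide +kernel
  refine ⟨U, RO TF4.o0, RO TF4.o1, hU ▸ R0_le_RO _, hU ▸ R0_le_RO _, fun h => ?_, fun h => ?_, ?_, fun β hβ => ?_⟩
  · exact nT_not_mem TF4.o0 (h ▸ Subgroup.mem_top _)
  · exact nT_not_mem TF4.o1 (h ▸ Subgroup.mem_top _)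
  · refine closure_eq_top _ ((R0_le_RO _).trans le_sup_left) fun o => ?_
    rcases TF4.o_cases o with rfl | rfl
    · exact Subgroup.mem_sup_left (nT_mem_RO _)
    · exact Subgroup.mem_sup_right (nT_mem_RO _)
  rw [hU] at hβ
  have hz : β z11 = z11 := by
    refine (central_eq (hβ.le ⟨z11, z11_mem, rfl⟩) fun x hx => ?_).resolve_left fun h =>
      z11_ne (β.injective (h.trans (map_one β).symm))
    obtain ⟨y, hy, rfl⟩ := hβ.ge hx
    show β z11 * β y = β y * β z11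
    rw [← map_mul, z11_comm y hy, map_mul]
  have hex : ∀ o, ∃ x, nT x ∈ (RO o).map β.toMonoidHom := fun o => by
    refine exists_nT (fun y hy => Subgroup.map_mono (R0_le_RO o) (hβ.ge hy)) fun hle => nT_not_mem_R0 o ?_
    obtain ⟨y, hy, e⟩ := hβ.ge (hle ⟨nT o, nT_mem_RO o, rfl⟩)
    rwa [← β.injective e]
  have hR0 : ∀ o, R0 ≤ (RO o).map β.toMonoidHom := fun o y hy => Subgroup.map_mono (R0_le_RO o) (hβ.ge hy)
  have hfix : ∀ o, nT o ∈ (RO o).map β.toMonoidHom → (RO o).map β.toMonoidHom = RO o := fun o h =>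
    (Subgroup.eq_of_le_of_card_ge (RO_le (hR0 o) h)
      (Nat.card_congr (Subgroup.equivMapOfInjective _ β.toMonoidHom β.injective).toEquiv).ge).symm
  have h1 : (RO TF4.o1).map β.toMonoidHom = RO TF4.o1 := by
    obtain ⟨x, hx⟩ := hex TF4.o1
    refine hfix _ ?_
    rcases TF4.o_cases x with rfl | rfl
    · exfalso
      obtain ⟨y, hy, e⟩ := hx
      refine nT_zero_comm ?_
      change β y = _ at e
      rw [← e, ← hz, ← map_mul, RO_one_comm y hy, map_mul]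
    · exact hx
  refine ⟨hfix _ ?_, h1⟩
  obtain ⟨x, hx⟩ := hex TF4.o0
  rcases TF4.o_cases x with rfl | rfl
  · exact hx
  · exfalso
    have hle : RO TF4.o1 ≤ (RO TF4.o0).map β.toMonoidHom := RO_le (hR0 _) hx
    rw [← h1] at hle
    have h2 := (Subgroup.map_le_map_iff_of_injective (f := β.toMonoidHom) β.injective).1 hle (nT_mem_RO _)
    exact nT_not_mem TF4.o0 (e0.symm ▸ h2)

end CfsgLib.Lie.PMin.Tits
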