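import Cfsg.Agent.Lib.Lie.PMin.SmallOne
import Cfsg.Agent.Lib.Lie.PMin.SmallTits

/-!
# The small socles
-/

set_option autoImplicit false

namespace CfsgLib.Lie.PMin

/-- the Tits group -/
theorem tits : Split 2 Cfsg.Lie.TitsGroup := Tits.tits

end CfsgLib.Lie.PMin
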