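import Cfsg.Agent.Lib.Lie.PMin.Core
import Cfsg.Agent.Lib.Lie.SylowOver.Small
import Cfsg.Agent.Lib.Lie.SylowOver.UThree
import Cfsg.Agent.Lib.Classical.PSUSimple
import Mathlib.GroupTheory.SpecificGroups.Alternating.Simple

/-!
# Overgroups of Sylow subgroups in A₆, U₃(3) and the simple group of order 504
-/

set_option autoImplicit false

namespace CfsgLib.Lie.PMin

open CfsgLib.Lie.SylowOver

/-! ## The group of order 504 -/

/-- a simple group of order 504 has no subgroup of index seven -/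
theorem index_ne_seven {G : Type*} [Group G] [Finite G] [IsSimpleGroup G] (hG : Nat.card G = 504) (M : Subgroup G) :
    M.index ≠ 7 := by
  intro hi
  have hM : M ≠ ⊤ := fun h => by simp [h] at hi
  classical
  haveI := Fintype.ofFinite (G ⧸ M)
  have hΩ : Nat.card (G ⧸ M) = 7 := hi
  obtain ⟨f, hf⟩ : ∃ f, f = MulAction.toPermHom G (G ⧸ M) := ⟨_, rfl⟩
  have hinj : f.ker = ⊥ := by
    refine f.normal_ker.eq_bot_or_eq_top.resolve_right fun h => hM ?_
    rw [hf, ← Subgroup.normalCore_eq_ker] at h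
    exact top_le_iff.1 (h ▸ Subgroup.normalCore_le M)
  have heven : (Equiv.Perm.sign.comp f).ker = ⊤ := by
    refine (Equiv.Perm.sign.comp f).normal_ker.eq_bot_or_eq_top.resolve_left fun h => ?_
    have h1 := Nat.card_le_card_of_injective _ ((MonoidHom.ker_eq_bot_iff _).1 h)
    simp only [hG, Nat.card_eq_fintype_card] at h1
    rw [show Fintype.card ℤˣ = 2 from rfl] at h1
    omega
  have hle : f.range ≤ alternatingGroup (G ⧸ M) := by
    rintro _ ⟨g, rfl⟩
    refine Equiv.Perm.mem_alternatingGroup.2 ?_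
    have h : g ∈ (Equiv.Perm.sign.comp f).ker := by rw [heven]; exact Subgroup.mem_top g
    exact MonoidHom.mem_ker.1 h
  haveI : Nontrivial (G ⧸ M) := (Nat.card_pos.trans_le le_rfl : 0 < Nat.card (G ⧸ M)) |> fun _ =>
    Finite.one_lt_card_iff_nontrivial.1 (by rw [hΩ]; norm_num)
  haveI : IsSimpleGroup (alternatingGroup (G ⧸ M)) := alternatingGroup.isSimpleGroup (by rw [hΩ]; norm_num)
  have hA : Nat.card (alternatingGroup (G ⧸ M)) = 2520 := by
    rw [nat_card_alternatingGroup, hΩ]; rfl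
  obtain ⟨H, hH⟩ : ∃ H, H = f.range.subgroupOf (alternatingGroup (G ⧸ M)) := ⟨_, rfl⟩
  have hc : Nat.card ↥H = 504 := by
    rw [hH, Nat.card_congr (Subgroup.subgroupOfEquivOfLe hle).toEquiv, ← hG]
    exact (Nat.card_congr (MonoidHom.ofInjective ((MonoidHom.ker_eq_bot_iff _).1 hinj)).toEquiv).symm
  have hidx : H.index = 5 := by
    have h := H.card_mul_index
    rw [hc, hA] at h
    omega
  have h := card_dvd_index_factorial (M := H) (fun h => by simp [h] at hidx)
  rw [hA, hidx] at h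
  revert h; decide

theorem one_504 {G : Type*} [Group G] [Finite G] [IsSimpleGroup G] (hG : Nat.card G = 504) : One 3 G := by
  haveI : Fact (Nat.Prime 3) := ⟨Nat.prime_three⟩
  obtain ⟨U⟩ : Nonempty (Sylow 3 G) := inferInstance
  have hc : Nat.card G = 3 ^ 2 * 56 := by rw [hG]; norm_num
  have hU := sylow_card hc (by norm_num) U
  have hsmall : ∀ H : Subgroup G, H ≠ ⊤ → 7 < H.index := by
    intro H hH
    have h := card_dvd_index_factorial hH
    rw [hG] at h
    rcases Nat.lt_or_ge 7 H.index with hlt | hle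
    · exact hlt
    · exfalso
      rcases hle.eq_or_lt with e | hlt
      · exact index_ne_seven hG H e
      · revert h
        generalize H.index = i at hlt
        interval_cases i <;> decide
  obtain ⟨N, hN⟩ : ∃ N, N = Subgroup.normalizer ((U : Subgroup G) : Set G) := ⟨_, rfl⟩
  have hs := card_sylow_spec hc (by norm_num)
  have he : Nat.card (Sylow 3 G) = N.index := hN ▸ Sylow.card_eq_index_normalizer U
  have hNne : N ≠ ⊤ := by
    intro h
    rcases (Subgroup.normalizer_eq_top_iff.1 (hN ▸ h)).eq_bot_or_eq_top with e | e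
    · rw [e, Subgroup.card_bot] at hU; norm_num at hU
    · rw [e, Subgroup.card_top, hG] at hU; norm_num at hU
  have hNi : N.index = 28 := by
    have h7 := hsmall N hNne
    have := (show ∀ n ∈ Nat.divisors 56, n % 3 = 1 → 7 < n → n = 28 by decide +kernel) _ hs.1 hs.2 (he ▸ h7)
    rw [← he, this]
  refine ⟨U, hN ▸ hNne, fun H hH hne => ?_⟩
  rw [← hN] at hH ⊢
  have hd : H.index ∣ 28 := hNi ▸ Subgroup.index_dvd_of_le hH
  have h14 := (show ∀ n ∈ Nat.divisors 28, 7 < n → n = 14 ∨ n = 28 by decide +kernel) _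
    (Nat.mem_divisors.2 ⟨hd, by norm_num⟩) (hsmall H hne)
  have hrel := Subgroup.relIndex_mul_index hH
  rw [hNi] at hrel
  rcases h14 with e | e
  · exfalso
    have hUH : (U : Subgroup G) ≤ H := (hN ▸ Subgroup.le_normalizer : (U : Subgroup G) ≤ N).trans hH
    have h1 : Nat.card (Sylow 3 ↥H) = N.relIndex H := by
      rw [Sylow.card_eq_index_normalizer (U.subtype hUH), Subgroup.relIndex, hN,
        Subgroup.subgroupOf_normalizer_eq hUH]
      rfl
    have h2 : Nat.card (Sylow 3 ↥H) % 3 = 1 := by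
      rw [card_sylow_modEq_one 3 ↥H]
    rw [e] at hrel
    have : N.relIndex H = 2 := by omega
    rw [h1, this] at h2
    omega
  · refine le_antisymm ?_ hH
    rw [← Subgroup.relIndex_eq_one]
    rw [e] at hrel
    omega

/-! ## The alternating group of degree six -/

section AltSix

/-- a transposition and a double transposition -/
def s1 : Equiv.Perm (Fin 6) := Equiv.swap 4 5

/-- three disjoint transpositions -/
def s2 : Equiv.Perm (Fin 6) := Equiv.swap 0 2 * Equiv.swap 1 3 * Equiv.swap 4 5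

/-- the even permutations commuting with a permutation -/
def cA (σ : Equiv.Perm (Fin 6)) : Subgroup ↥(alternatingGroup (Fin 6)) :=
  (Subgroup.centralizer {σ}).comap (alternatingGroup (Fin 6)).subtype

theorem mem_cA {σ : Equiv.Perm (Fin 6)} {g : ↥(alternatingGroup (Fin 6))} :
    g ∈ cA σ ↔ σ * g.1 = g.1 * σ := by
  rw [cA, Subgroup.mem_comap, Subgroup.mem_centralizer_singleton_iff, eq_comm, Subgroup.coe_subtype]

/-- the first generator -/
def ga : ↥(alternatingGroup (Fin 6)) :=
  ⟨Equiv.swap 0 3 * Equiv.swap 0 2 * Equiv.swap 0 1 * Equiv.swap 4 5, Equiv.Perm.mem_alternatingGroup.2 (by decide +kernel)⟩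

/-- the second generator -/
def gb : ↥(alternatingGroup (Fin 6)) := ⟨Equiv.swap 0 2 * Equiv.swap 4 5, Equiv.Perm.mem_alternatingGroup.2 (by decide +kernel)⟩

theorem gens_mem : ga ∈ cA s1 ∧ ga ∈ cA s2 ∧ gb ∈ cA s1 ∧ gb ∈ cA s2 := by
  simp only [mem_cA]; decide +kernel

theorem counts : (Finset.univ.filter fun g : ↥(alternatingGroup (Fin 6)) => s1 * g.1 = g.1 * s1).card = 24 ∧
    (Finset.univ.filter fun g : ↥(alternatingGroup (Fin 6)) => s2 * g.1 = g.1 * s2).card = 24 ∧
    (Finset.univ.filter fun g : ↥(alternatingGroup (Fin 6)) =>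
      s1 * g.1 = g.1 * s1 ∧ s2 * g.1 = g.1 * s2).card = 8 := by
  decide +kernel

theorem norm_check : ∀ g : ↥(alternatingGroup (Fin 6)),
    (s1 * (g * ga * g⁻¹).1 = (g * ga * g⁻¹).1 * s1 ∧ s2 * (g * ga * g⁻¹).1 = (g * ga * g⁻¹).1 * s2) →
    (s1 * (g * gb * g⁻¹).1 = (g * gb * g⁻¹).1 * s1 ∧ s2 * (g * gb * g⁻¹).1 = (g * gb * g⁻¹).1 * s2) →
    s1 * g.1 = g.1 * s1 ∧ s2 * g.1 = g.1 * s2 := by
  decide +kernel

theorem five_check : ∀ g : ↥(alternatingGroup (Fin 6)),
    s1 * g.1 = g.1 * s1 ∨ s2 * g.1 = g.1 * s2 ∨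
      ∃ i : Fin 4, ∃ j : Fin 2, (g * (ga ^ i.val * gb ^ j.val)) ^ 5 = 1 ∧ g * (ga ^ i.val * gb ^ j.val) ≠ 1 := by
  decide +kernel

theorem alt_six : Two 2 ↥(alternatingGroup (Fin 6)) := by
  classical
  haveI : Fact (Nat.Prime 2) := ⟨Nat.prime_two⟩
  haveI : Fact (Nat.Prime 5) := ⟨by norm_num⟩
  haveI : IsSimpleGroup ↥(alternatingGroup (Fin 6)) := alternatingGroup.isSimpleGroup (by simp)
  have hG : Nat.card ↥(alternatingGroup (Fin 6)) = 360 := by
    rw [nat_card_alternatingGroup, Nat.card_fin]; rfl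
  have hc1 : Nat.card ↥(cA s1) = 24 := by
    rw [Nat.card_eq_fintype_card, Fintype.card_subtype, ← counts.1]
    exact congrArg Finset.card (Finset.filter_congr fun g _ => mem_cA)
  have hc2 : Nat.card ↥(cA s2) = 24 := by
    rw [Nat.card_eq_fintype_card, Fintype.card_subtype, ← counts.2.1]
    exact congrArg Finset.card (Finset.filter_congr fun g _ => mem_cA)
  have hc0 : Nat.card ↥(cA s1 ⊓ cA s2) = 8 := by
    rw [Nat.card_eq_fintype_card, Fintype.card_subtype, ← counts.2.2]
    exact congrArg Finset.card (Finset.filter_congr fun g _ => by rw [Subgroup.mem_inf, mem_cA, mem_cA])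
  have hfac : (Nat.card ↥(alternatingGroup (Fin 6))).factorization 2 = 3 := by
    rw [hG, show (360 : ℕ) = 2 ^ 3 * 45 by norm_num, Nat.factorization_mul (by norm_num) (by norm_num),
      Finsupp.add_apply, Nat.factorization_eq_zero_of_not_dvd (n := 45) (by norm_num),
      Nat.prime_two.factorization_pow, Finsupp.single_eq_same]
  obtain ⟨U, hU⟩ : ∃ U : Sylow 2 ↥(alternatingGroup (Fin 6)), (U : Subgroup _) = cA s1 ⊓ cA s2 :=
    ⟨Sylow.ofCard _ (by rw [hc0, hfac]; norm_num), rfl⟩
  have hN : Subgroup.normalizer ((U : Subgroup ↥(alternatingGroup (Fin 6))) : Set ↥(alternatingGroup (Fin 6))) =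
      (U : Subgroup ↥(alternatingGroup (Fin 6))) := by
    refine le_antisymm (fun g hg => ?_) Subgroup.le_normalizer
    have ha := (Subgroup.mem_normalizer_iff.1 hg ga).1 (hU ▸ ⟨gens_mem.1, gens_mem.2.1⟩)
    have hb := (Subgroup.mem_normalizer_iff.1 hg gb).1 (hU ▸ ⟨gens_mem.2.2.1, gens_mem.2.2.2⟩)
    rw [hU, Subgroup.mem_inf, mem_cA, mem_cA] at ha hb ⊢
    exact norm_check g ha hb
  have hcls : ∀ H : Subgroup ↥(alternatingGroup (Fin 6)), cA s1 ⊓ cA s2 ≤ H → H ≠ ⊤ →
      H = cA s1 ⊓ cA s2 ∨ H = cA s1 ∨ H = cA s2 := by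
    intro H hH hne
    have hno5 : ¬ 5 ∣ Nat.card ↥H := by
      intro h5
      have h8 : 8 ∣ Nat.card ↥H := hc0 ▸ Subgroup.card_dvd_of_le hH
      have hidx : ¬ 2 ∣ H.index := by
        intro h2
        have h := Nat.mul_dvd_mul h8 h2
        rw [H.card_mul_index, hG] at h
        norm_num at h
      obtain ⟨i, hi, hfac, hc, hi'⟩ := card_of_index (p := 2) (a := 3) (m := 45) (by rw [hG]; norm_num) hidx hne
      have hi9 : i = 1 ∨ i = 3 ∨ i = 9 := by
        refine (show ∀ i ∈ Nat.divisors 45, 5 ∣ 45 / i → i = 1 ∨ i = 3 ∨ i = 9 by decide +kernel) i hi ?_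
        rw [hc] at h5
        exact (Nat.Coprime.dvd_mul_left (by norm_num)).1 h5
      rcases hi9 with rfl | rfl | rfl
      · revert hfac; decide +kernel
      · revert hfac; decide +kernel
      have h1 := card_sylow_spec (H := ↥H) (p := 5) (a := 1) (m := 8) (hc.trans (by norm_num)) (by norm_num)
      have hone : Nat.card (Sylow 5 ↥H) = 1 :=
        (show ∀ n ∈ Nat.divisors 8, n % 5 = 1 → n = 1 by decide +kernel) _ h1.1 h1.2
      obtain ⟨n, hn, hn5, hn1⟩ := exists_index_normalizer (q := 5) (a := 72) (m := 8) (M := H)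
        (by rw [hG]) (by norm_num) (hc.trans (by norm_num)) (by norm_num) hone (by rw [hG]; norm_num)
      rw [hi'] at hn
      exact hn1 ((show ∀ n ∈ Nat.divisors 9, n % 5 = 1 → n = 1 by decide +kernel) n
        (Nat.mem_divisors.2 ⟨hn, by norm_num⟩) hn5)
    have hun : ∀ g ∈ H, g ∈ cA s1 ∨ g ∈ cA s2 := by
      intro g hg
      rw [mem_cA, mem_cA]
      rcases five_check g with h | h | ⟨i, j, h5, h1⟩
      · exact Or.inl h
      · exact Or.inr h
      · exfalso
        refine hno5 ?_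
        rw [← orderOf_eq_prime h5 h1]
        exact Subgroup.orderOf_dvd_natCard _ (mul_mem hg (hH (Subgroup.mem_inf.2
          ⟨mul_mem (pow_mem gens_mem.1 _) (pow_mem gens_mem.2.2.1 _),
            mul_mem (pow_mem gens_mem.2.1 _) (pow_mem gens_mem.2.2.2 _)⟩)))
    have hle : H ≤ cA s1 ∨ H ≤ cA s2 := by
      by_contra hcon
      rw [not_or] at hcon
      obtain ⟨a, ha, ha'⟩ := SetLike.not_le_iff_exists.1 hcon.1
      obtain ⟨b, hb, hb'⟩ := SetLike.not_le_iff_exists.1 hcon.2
      have a2 := (hun a ha).resolve_left ha'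
      have b1 := (hun b hb).resolve_right hb'
      rcases hun (a * b) (mul_mem ha hb) with h | h
      · exact ha' ((Subgroup.mul_mem_cancel_right _ b1).1 h)
      · exact hb' ((Subgroup.mul_mem_cancel_left _ a2).1 h)
    have key : ∀ R : Subgroup ↥(alternatingGroup (Fin 6)), Nat.card ↥R = 24 → H ≤ R →
        H = cA s1 ⊓ cA s2 ∨ H = R := by
      intro R hR hHR
      obtain ⟨k, hk⟩ : 8 ∣ Nat.card ↥H := hc0 ▸ Subgroup.card_dvd_of_le hH
      have h24 := Subgroup.card_dvd_of_le hHR
      rw [hR, hk] at h24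
      have : k = 1 ∨ k = 3 := (Nat.dvd_prime Nat.prime_three).1
        (Nat.dvd_of_mul_dvd_mul_left (by norm_num : 0 < 8) (h24 : 8 * k ∣ 8 * 3))
      rcases this with rfl | rfl
      · exact Or.inl (Subgroup.eq_of_le_of_card_ge hH (by rw [hc0, hk])).symm
      · exact Or.inr (Subgroup.eq_of_le_of_card_ge hHR (by rw [hR, hk]))
    rcases hle with h | h
    · exact (key _ hc1 h).imp_right Or.inl
    · exact (key _ hc2 h).imp_right Or.inr
  have hne : ∀ R : Subgroup ↥(alternatingGroup (Fin 6)), Nat.card ↥R = 24 → R ≠ ⊤ := fun R hR h => by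
    rw [h, Subgroup.card_top, hG] at hR; norm_num at hR
  refine ⟨U, cA s1, cA s2, ?_, ?_, hne _ hc1, hne _ hc2, ?_, fun H hH hHne => ?_⟩
  · rw [hN, hU]; exact inf_le_left
  · rw [hN, hU]; exact inf_le_right
  · by_contra htop
    rcases hcls _ (inf_le_left.trans le_sup_left) htop with h | h | h
    · have := Nat.le_of_dvd (by norm_num) (hc0 ▸ h ▸ Subgroup.card_dvd_of_le (le_sup_left : cA s1 ≤ cA s1 ⊔ cA s2))
      omega
    · have h1 : cA s2 ≤ cA s1 := h ▸ le_sup_right
      rw [inf_eq_right.2 h1] at hc0; omega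
    · have h1 : cA s1 ≤ cA s2 := h ▸ le_sup_left
      rw [inf_eq_left.2 h1] at hc0; omega
  · rw [hN, hU] at hH ⊢
    exact hcls H hH hHne

end AltSix

/-! ## The unitary group U₃(3) -/

section UThree

open CfsgLib.Char.SU33 CfsgLib.Lie.SylowOver.UThree CfsgLib.Char.SpectraThree

theorem seven_check : mulM (gCode 7) (mulM (gCode 7) (gCode 7)) = oneM ∧ gCode 7 ≠ oneM ∧
    powU (mulM (mulM (gCode 7) (gCode 96)) (sylList.getD 1 0)) 7 = oneM ∧
    mulM (mulM (gCode 7) (gCode 96)) (sylList.getD 1 0) ≠ oneM := by decide +kernel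

theorem seven_center : (sylList.all fun a => !(sylList.all fun b => mulM a b == mulM b a) ||
    mulM a (gCode 7) == mulM (gCode 7) a) = true := by decide +kernel

theorem ninetysix_center : (sylList.any fun a => (sylList.all fun b => mulM a b == mulM b a) &&
    !(mulM a (gCode 96) == mulM (gCode 96) a)) = true := by decide +kernel

/-- membership of a code in the centraliser of the squares -/
def sqC (a : ℕ) : Bool := sylList.all fun y => mulM a (mulM y y) == mulM (mulM y y) a

theorem ninetysix_norm : (sylList.all fun a => !sqC a ||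
    (sylList.contains (mulM (mulM (gCode 96) a) (invM (gCode 96))) &&
      sqC (mulM (mulM (gCode 96) a) (invM (gCode 96))))) = true := by decide +kernel

theorem seven_norm : (sylList.any fun a => sqC a &&
    !(sylList.contains (mulM (mulM (gCode 7) a) (invM (gCode 7))) &&
      sqC (mulM (mulM (gCode 7) a) (invM (gCode 7))))) = true := by decide +kernel

theorem syl_norm : (sylList.all fun u => sylList.all fun a => !sqC a ||
    (sylList.contains (mulM (mulM u a) (invM u)) && sqC (mulM (mulM u a) (invM u)))) = true := by decide +kernel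

theorem syl_nodup : sylList.Nodup := by decide +kernel

/-- the centraliser of the centre -/
def ctrC {G : Type*} [Group G] (U : Subgroup G) : Subgroup G :=
  Subgroup.centralizer ((U ⊓ Subgroup.centralizer (U : Set G) : Subgroup G) : Set G)

/-- the centraliser of the squares in a subgroup -/
def sqCen {G : Type*} [Group G] (U : Subgroup G) : Subgroup G :=
  U ⊓ Subgroup.centralizer ((fun y => y * y) '' (U : Set G))

theorem map_centralizer {G : Type*} [Group G] (β : MulAut G) (s : Set G) :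
    (Subgroup.centralizer s).map β.toMonoidHom = Subgroup.centralizer (β '' s) := by
  ext x
  rw [Subgroup.mem_map_equiv, Subgroup.mem_centralizer_iff, Subgroup.mem_centralizer_iff]
  constructor
  · rintro h _ ⟨y, hy, rfl⟩
    simpa using congrArg β (h y hy)
  · intro h y hy
    apply β.injective
    simpa using h _ ⟨y, hy, rfl⟩

theorem map_ctrC {G : Type*} [Group G] (β : MulAut G) {U : Subgroup G} (h : U.map β.toMonoidHom = U) :
    (ctrC U).map β.toMonoidHom = ctrC U := by
  have hU : (β '' (U : Set G)) = U := by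
    conv_rhs => rw [← h]
    rfl
  have hZ : (U ⊓ Subgroup.centralizer (U : Set G)).map β.toMonoidHom = U ⊓ Subgroup.centralizer (U : Set G) := by
    rw [Subgroup.map_inf _ _ _ β.injective, h, map_centralizer, hU]
  rw [ctrC, map_centralizer]
  congr 1
  conv_rhs => rw [← hZ]
  rfl

theorem map_sqCen {G : Type*} [Group G] (β : MulAut G) {U : Subgroup G} (h : U.map β.toMonoidHom = U) :
    (sqCen U).map β.toMonoidHom = sqCen U := by
  have hU : (β '' (U : Set G)) = U := by
    conv_rhs => rw [← h]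
    rfl
  rw [sqCen, Subgroup.map_inf _ _ _ β.injective, h, map_centralizer]
  congr 2
  conv_rhs => rw [← hU, Set.image_image]
  rw [Set.image_image]
  exact Set.image_congr fun y _ => map_mul β y y

variable {F : Type*} [Field F] (R : Root F)

theorem card_syl : Nat.card ↥(syl R) = 32 := by
  classical
  haveI : Finite ↥(Cfsg.SU 3 F 3) := Nat.finite_of_card_ne_zero (by rw [card_su33 R]; norm_num)
  rw [← syl_length, ← List.toFinset_card_of_nodup syl_nodup, ← Nat.card_eq_finsetCard]
  refine Nat.card_eq_of_bijective (fun g => ⟨codeOf R g.1, List.mem_toFinset.2 g.2⟩) ⟨fun a b h => ?_, ?_⟩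
  · exact Subtype.ext (codeOf_injective R (congrArg Subtype.val h))
  · rintro ⟨a, ha⟩
    obtain ⟨g, hg, e⟩ := exists_syl_elem R (List.mem_toFinset.1 ha)
    exact ⟨⟨g, hg⟩, Subtype.ext e⟩

theorem mem_ctr {x : ↥(Cfsg.SU 3 F 3)} :
    x ∈ syl R ⊓ Subgroup.centralizer (syl R : Set ↥(Cfsg.SU 3 F 3)) ↔
      codeOf R x ∈ sylList ∧ ∀ b ∈ sylList, mulM (codeOf R x) b = mulM b (codeOf R x) := by
  rw [Subgroup.mem_inf, Subgroup.mem_centralizer_iff]
  refine and_congr Iff.rfl ⟨fun h b hb => ?_, fun h y hy => ?_⟩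
  · obtain ⟨g, hg, rfl⟩ := exists_syl_elem R hb
    rw [← codeOf_mul, ← codeOf_mul, h g hg]
  · refine codeOf_injective R ?_
    rw [codeOf_mul, codeOf_mul, h _ hy]

theorem mem_sqCen {x : ↥(Cfsg.SU 3 F 3)} :
    x ∈ sqCen (syl R) ↔ codeOf R x ∈ sylList ∧ sqC (codeOf R x) = true := by
  rw [sqCen, Subgroup.mem_inf, Subgroup.mem_centralizer_iff, sqC, List.all_eq_true]
  refine and_congr Iff.rfl ⟨fun h b hb => ?_, fun h y hy => ?_⟩
  · obtain ⟨g, hg, rfl⟩ := exists_syl_elem R hb
    rw [beq_iff_eq, ← codeOf_mul, ← codeOf_mul, ← codeOf_mul, h _ ⟨g, hg, rfl⟩]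
  · obtain ⟨g, hg, rfl⟩ := hy
    refine codeOf_injective R ?_
    have := h _ hg
    rw [beq_iff_eq] at this
    rw [codeOf_mul, codeOf_mul, codeOf_mul]
    show mulM (mulM (codeOf R g) (codeOf R g)) (codeOf R x) = mulM (codeOf R x) (codeOf R (g * g))
    rw [codeOf_mul]
    exact this.symm

include R in
theorem split_su33 [IsSimpleGroup ↥(Cfsg.SU 3 F 3)] (hord : ∀ g : ↥(Cfsg.SU 3 F 3), orderOf g ≠ 14) :
    Split 2 ↥(Cfsg.SU 3 F 3) := by
  classical
  haveI : Fact (Nat.Prime 2) := ⟨Nat.prime_two⟩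
  haveI : Fact (Nat.Prime 3) := ⟨Nat.prime_three⟩
  haveI : Fact (Nat.Prime 7) := ⟨by norm_num⟩
  have hG := card_su33 R
  haveI : Finite ↥(Cfsg.SU 3 F 3) := Nat.finite_of_card_ne_zero (by rw [hG]; norm_num)
  have hfac : (Nat.card ↥(Cfsg.SU 3 F 3)).factorization 2 = 5 := by
    rw [hG, show (6048 : ℕ) = 2 ^ 5 * 189 by norm_num, Nat.factorization_mul (by norm_num) (by norm_num),
      Finsupp.add_apply, Nat.factorization_eq_zero_of_not_dvd (n := 189) (by norm_num),
      Nat.prime_two.factorization_pow, Finsupp.single_eq_same]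
  obtain ⟨U, hU⟩ : ∃ U : Sylow 2 ↥(Cfsg.SU 3 F 3), (U : Subgroup _) = syl R :=
    ⟨Sylow.ofCard (syl R) ((card_syl R).trans (by rw [hfac]; norm_num)), rfl⟩
  obtain ⟨a, ha⟩ : ∃ a, a = elem R ⟨7, by norm_num⟩ := ⟨_, rfl⟩
  obtain ⟨b, hb⟩ : ∃ b, b = elem R ⟨96, by norm_num⟩ := ⟨_, rfl⟩
  have ea : codeOf R a = gCode 7 := by rw [ha, codeOf_elem]
  have eb : codeOf R b = gCode 96 := by rw [hb, codeOf_elem]
  refine ⟨U, ctrC (syl R), Subgroup.normalizer (sqCen (syl R) : Set ↥(Cfsg.SU 3 F 3)), ?_, ?_, ?_, ?_, ?_, ?_⟩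
  · rw [hU]
    intro u hu
    rw [ctrC, Subgroup.mem_centralizer_iff]
    intro z hz
    exact (Subgroup.mem_centralizer_iff.1 hz.2 u hu).symm
  · rw [hU]
    intro u hu
    rw [Subgroup.mem_normalizer_iff]
    intro x
    have key : ∀ u ∈ syl R, ∀ x ∈ sqCen (syl R), u * x * u⁻¹ ∈ sqCen (syl R) := by
      intro u hu x hx
      rw [mem_sqCen] at hx ⊢
      have h := List.all_eq_true.1 (List.all_eq_true.1 syl_norm _ hu) _ hx.1
      rw [hx.2] at h
      simp only [Bool.not_true, Bool.false_or, Bool.and_eq_true, List.contains_iff_mem] at h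
      rw [codeOf_mul, codeOf_mul, codeOf_inv]
      exact h
    exact ⟨key u hu x, fun h => by simpa [mul_assoc] using key _ (inv_mem hu) _ h⟩
  · intro htop
    have h := List.any_eq_true.1 ninetysix_center
    obtain ⟨z, hz, hzc⟩ := h
    simp only [Bool.and_eq_true, List.all_eq_true, beq_iff_eq, Bool.not_eq_true', beq_eq_false_iff_ne] at hzc
    obtain ⟨g, -, rfl⟩ := exists_syl_elem R hz
    have hb' : b ∈ ctrC (syl R) := htop ▸ Subgroup.mem_top _
    have := Subgroup.mem_centralizer_iff.1 hb' g ((mem_ctr R).2 ⟨hz, hzc.1⟩)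
    refine hzc.2 ?_
    rw [← eb, ← codeOf_mul, ← codeOf_mul, this]
  · intro htop
    obtain ⟨z, hz, hzc⟩ := List.any_eq_true.1 seven_norm
    obtain ⟨g, -, rfl⟩ := exists_syl_elem R hz
    simp only [Bool.and_eq_true, Bool.not_eq_true'] at hzc
    have ha' : a ∈ Subgroup.normalizer (sqCen (syl R) : Set ↥(Cfsg.SU 3 F 3)) := htop ▸ Subgroup.mem_top _
    have h := (mem_sqCen R).1 ((Subgroup.mem_normalizer_iff.1 ha' g).1 ((mem_sqCen R).2 ⟨hz, hzc.1⟩))
    rw [codeOf_mul, codeOf_mul, codeOf_inv, ea] at h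
    have h2 := hzc.2
    rw [h.2, List.contains_iff_mem.2 h.1] at h2
    exact absurd h2 (by simp)
  · obtain ⟨J, hJ⟩ : ∃ J, J = ctrC (syl R) ⊔ Subgroup.normalizer (sqCen (syl R) : Set ↥(Cfsg.SU 3 F 3)) := ⟨_, rfl⟩
    rw [← hJ]
    by_contra hne
    have haJ : a ∈ J := by
      refine hJ ▸ Subgroup.mem_sup_left ?_
      rw [ctrC, Subgroup.mem_centralizer_iff]
      intro z hz
      rw [SetLike.mem_coe, mem_ctr] at hz
      have h := List.all_eq_true.1 seven_center _ hz.1
      simp only [Bool.or_eq_true, Bool.not_eq_true', beq_iff_eq] at h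
      refine codeOf_injective R ?_
      rw [codeOf_mul, codeOf_mul, ea]
      refine h.resolve_left ?_
      rw [Bool.eq_false_iff]
      exact not_not_intro (List.all_eq_true.2 fun y hy => beq_iff_eq.2 (hz.2 y hy))
    have hbJ : b ∈ J := by
      refine hJ ▸ Subgroup.mem_sup_right ?_
      have hfin : ((sqCen (syl R)).map (MulAut.conj b).toMonoidHom) = sqCen (syl R) := by
        refine map_eq_of_le _ ?_
        rintro _ ⟨x, hx, rfl⟩
        rw [SetLike.mem_coe, mem_sqCen] at hx
        have h := List.all_eq_true.1 ninetysix_norm _ hx.1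
        rw [hx.2] at h
        simp only [Bool.not_true, Bool.false_or, Bool.and_eq_true, List.contains_iff_mem] at h
        rw [mem_sqCen]
        show codeOf R (b * x * b⁻¹) ∈ sylList ∧ sqC (codeOf R (b * x * b⁻¹)) = true
        rw [codeOf_mul, codeOf_mul, codeOf_inv, eb]
        exact h
      rw [Subgroup.mem_normalizer_iff]
      intro x
      constructor
      · exact fun hx => hfin.le ⟨x, hx, rfl⟩
      · intro hx
        obtain ⟨y, hy, e⟩ := hfin.ge hx
        rwa [← (MulAut.conj b).injective e]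
    have hUJ : syl R ≤ J := by
      refine le_trans ?_ (hJ ▸ le_sup_left)
      intro u hu
      rw [ctrC, Subgroup.mem_centralizer_iff]
      intro z hz
      exact (Subgroup.mem_centralizer_iff.1 hz.2 u hu).symm
    obtain ⟨u, hu, eu⟩ := exists_syl_elem R (a := sylList.getD 1 0) (by
      rw [List.getD_eq_getElem _ _ (by rw [syl_length]; norm_num)]; exact List.getElem_mem _)
    obtain ⟨s1, s2, s3, s4⟩ := seven_check
    have d3 : 3 ∣ Nat.card ↥J := by
      have ho : orderOf a = 3 := by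
        refine orderOf_eq_prime (codeOf_injective R ?_) fun h => s2 ?_
        · rw [show a ^ 3 = a * (a * a) by rw [pow_succ, pow_two, mul_assoc], codeOf_mul, codeOf_mul, ea, s1, codeOf_one]
        · rw [← ea, h, codeOf_one]
      have h := Subgroup.orderOf_dvd_natCard J haJ
      rwa [ho] at h
    have d7 : 7 ∣ Nat.card ↥J := by
      have ho : orderOf (a * b * u) = 7 := by
        refine orderOf_eq_prime (codeOf_injective R ?_) fun h => s4 ?_
        · rw [CfsgLib.Char.SpectraThree.codeOf_pow, codeOf_mul, codeOf_mul, ea, eb, eu, s3, codeOf_one]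
        · rw [← ea, ← eb, ← eu, ← codeOf_mul, ← codeOf_mul, h, codeOf_one]
      have h := Subgroup.orderOf_dvd_natCard J (mul_mem (mul_mem haJ hbJ) (hUJ hu))
      rwa [ho] at h
    have d32 : 32 ∣ Nat.card ↥J := card_syl R ▸ Subgroup.card_dvd_of_le hUJ
    have hd : J.index ∣ 9 := by
      have h672 : 672 ∣ Nat.card ↥J := Nat.Coprime.mul_dvd_of_dvd_of_dvd (by norm_num : Nat.Coprime 32 21) d32
        (Nat.Coprime.mul_dvd_of_dvd_of_dvd (by norm_num : Nat.Coprime 3 7) d3 d7)
      obtain ⟨k, hk⟩ := h672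
      have h := J.card_mul_index
      rw [hk, hG] at h
      exact ⟨k, by nlinarith⟩
    rcases (show ∀ n ∈ Nat.divisors 9, n ≤ 3 ∨ n = 9 by decide +kernel) _
      (Nat.mem_divisors.2 ⟨hd, by norm_num⟩) with h | h
    · have h1 := card_dvd_index_factorial hne
      rw [hG] at h1
      have h2 := Nat.le_of_dvd (Nat.factorial_pos _) h1
      have h3 := Nat.factorial_le h
      simp [Nat.factorial] at h3
      omega
    · refine not_card_sixSevenTwo hord (M := J) ?_
      have h1 := J.card_mul_index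
      rw [h, hG] at h1
      omega
  · rw [hU]
    intro β hβ
    refine ⟨map_ctrC β hβ, ?_⟩
    rw [Subgroup.map_equiv_normalizer_eq, map_sqCen β hβ]

theorem psu_three {F : Type} [Field F] [Fintype F] (hF : Fintype.card F = 9) : Split 2 (Cfsg.PSU 3 F 3) := by
  obtain ⟨R⟩ := exists_root hF
  haveI : Fact (Nat.Prime 2) := ⟨Nat.prime_two⟩
  haveI : IsSimpleGroup (Cfsg.PSU 3 F 3) :=
    CfsgLib.Classical.psu_isSimple (q := 3) (by rw [hF]; norm_num) le_rfl (by omega)
  let E : Cfsg.PSU 3 F 3 ≃* ↥(Cfsg.SU 3 F 3) :=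
    (QuotientGroup.quotientMulEquivOfEq (center_eq_bot R)).trans QuotientGroup.quotientBot
  haveI : Finite ↥(Cfsg.SU 3 F 3) := Nat.finite_of_card_ne_zero (by rw [card_su33 R]; norm_num)
  haveI : Finite (Cfsg.PSU 3 F 3) := Finite.of_equiv _ E.symm.toEquiv
  haveI : IsSimpleGroup ↥(Cfsg.SU 3 F 3) :=
    haveI : Nontrivial ↥(Cfsg.SU 3 F 3) := E.symm.toEquiv.nontrivial
    IsSimpleGroup.isSimpleGroup_of_surjective E.toMonoidHom E.surjective
  refine Split.of_equiv (split_su33 (R := R) fun g hg => ?_) E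
  obtain ⟨n, hn, hd⟩ := (CfsgLib.Char.SpectraThree.range_psu_three_three hF).le ⟨E.symm g, rfl⟩
  rw [MulEquiv.orderOf_eq, hg] at hd
  simp only [List.mem_cons, List.not_mem_nil, or_false] at hn
  rcases hn with rfl | rfl | rfl <;> norm_num at hd

end UThree

end CfsgLib.Lie.PMin
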