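import Cfsg.Agent.Lib.Lie.PMin.Chev
import Cfsg.Agent.Lib.Lie.Chev.Tw.Out.CaseE6
import Cfsg.Agent.Lib.Lie.Chev.Tw.Out.CaseD4
import Cfsg.Agent.Lib.Lie.Chev.Tw.Out.ParPerm
import Cfsg.Agent.Lib.Lie.Chev.Tw.ReeF4.Aut
import Cfsg.Agent.Lib.Lie.Chev.Tw.G2Gp

/-!
# The patterns in the twisted exceptional groups
-/

set_option autoImplicit false
set_option linter.unusedSectionVars false
set_option maxRecDepth 100000

namespace CfsgLib.Lie.PMin

open Cfsg Cfsg.Lie CfsgLib.Lie CfsgLib.Lie.Chev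
open scoped MatrixGroups

variable {K : Type*} [Field K] [Fintype K] {q : ℕ}

theorem split_twE6 (p : ℕ) [Fact p.Prime] [CharP K p] (hq : IsPrimePow q) (hK : Fintype.card K = q ^ 2) :
    Split p ↥(twistedE6 K q) := by
  classical
  obtain ⟨θ, hθ⟩ := Frob.exists_powEquiv (K := K) hq hK
  have h2 : ∀ t : K, θ (θ t) = t := fun t => by
    rw [hθ, hθ, ← pow_mul, show q * q = q ^ 2 from (pow_two q).symm, ← hK, FiniteField.pow_card]
  refine split_twisted (TE6.twGp θ hθ h2) p TE6.k0 TE6.k1 (by decide +kernel) fun ψ hU hV k => ?_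
  obtain ⟨π, hπ⟩ := (TE6.twPar θ hθ h2).exists_perm_orbits ψ hU hV
  have h1 := TE6.perm_eq_one θ hθ h2 hq hK ψ π hπ
  have hY : (TE6.twGp θ hθ h2).oY k = (TE6.twPar θ hθ h2).gYs k := by
    rw [← TwGp.oP_inf_gV, ← (TE6.twPar θ hθ h2).gPar_inf_gV]
    rfl
  rw [hY, (hπ k).2, h1, Equiv.Perm.one_apply]

theorem split_twD4 (p : ℕ) [Fact p.Prime] [CharP K p] (hq : IsPrimePow q) (hK : Fintype.card K = q ^ 3) :
    Split p ↥(twistedD4 K q) := by
  classical
  obtain ⟨θ, hθ⟩ := Frob.exists_powEquiv (K := K) hq hK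
  have h3 : ∀ t : K, θ (θ (θ t)) = t := TD4.h3_of θ hθ hK
  have hF0 : Nat.card ↥((TD4.twPar θ hθ h3).F TD4.o0) = q := by
    refine (Nat.card_congr (Equiv.subtypeEquivRight fun x => ?_)).trans (Frob.card_fixed hq hK)
    exact (TD4.mem_outF_zero θ).trans (by rw [hθ])
  have hF1 : Nat.card ↥((TD4.twPar θ hθ h3).F TD4.o1) = q ^ 3 := by
    show Nat.card ↥(TD4.outF θ TD4.o1) = _
    rw [TD4.outF_one, Nat.card_congr Subfield.topEquiv.toEquiv, Nat.card_eq_fintype_card, hK]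
  have hX : ∀ k, Nat.card ↥((TD4.twGp θ hθ h3).oX k) = Nat.card ↥((TD4.twPar θ hθ h3).F k) := fun k => by
    rw [← (TD4.twPar θ hθ h3).card_gXs, show (TD4.twPar θ hθ h3).gXs k = (TD4.twGp θ hθ h3).oX k from
      Subgroup.ext fun g => (TD4.twPar θ hθ h3).mem_gXs_iff]
  have hlt : q < q ^ 3 := by simpa using Nat.pow_lt_pow_right hq.one_lt (show 1 < 3 by norm_num)
  have hinj : Function.Injective fun k => Nat.card ↥((TD4.twGp θ hθ h3).oX k) := by
    intro k l h
    simp only [hX] at h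
    rcases TD4.o_cases k with rfl | rfl <;> rcases TD4.o_cases l with rfl | rfl
    exacts [rfl, absurd h (by rw [hF0, hF1]; omega), absurd h (by rw [hF0, hF1]; omega), rfl]
  exact split_twisted (TD4.twGp θ hθ h3) p TD4.o0 TD4.o1 (by decide +kernel) fun ψ hU hV k =>
    TwGp.map_oY (TD4.twGp θ hθ h3) hU hV hinj k

theorem split_twF4 [CharP K 2] {m : ℕ} (hm : 1 ≤ m) (hK : Fintype.card K = 2 ^ (2 * m + 1)) :
    Split 2 ↥(twistedF4 K (2 ^ m)) := by
  haveI : Fact (Nat.Prime 2) := ⟨Nat.prime_two⟩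
  obtain ⟨hc, θ, hsq, hθ⟩ := TF4.exists_theta hK
  have hne : ∃ s, θ s ≠ s := by
    by_contra hall
    simp only [not_exists, not_not] at hall
    classical
    have hsub : (Finset.univ : Finset K) ⊆ {0, 1} := by
      intro x _
      simp only [Finset.mem_insert, Finset.mem_singleton]
      refine or_iff_not_imp_left.2 fun hx => ?_
      have h := hsq x
      rw [hall, (RingEquiv.symm_apply_eq θ).2 (hall x).symm] at h
      exact (mul_left_cancel₀ hx (by rw [mul_one, ← pow_two, ← h])).symm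
    have h := (Finset.card_le_card hsub).trans Finset.card_le_two
    rw [Finset.card_univ, hK] at h
    have : 2 ^ 3 ≤ 2 ^ (2 * m + 1) := Nat.pow_le_pow_right (by norm_num) (by omega)
    omega
  have R : TF4Out.Ree θ m := ⟨hsq, hθ, hne⟩
  exact split_twisted R.gp 2 TF4.o0 TF4.o1 (by decide +kernel) fun ψ hU hV k =>
    R.gp.map_oY hU hV (TF4Out.card_oX_injective R) k

theorem one_twG2 [CharP K 3] {m : ℕ} (hK : Fintype.card K = 3 ^ (2 * m + 1)) : One 3 ↥(twistedG2 K (3 ^ m)) := by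
  haveI : Fact (Nat.Prime 3) := ⟨Nat.prime_three⟩
  obtain ⟨hc, θ, hcu, hθ, hneg⟩ := TG2.exists_theta hK
  exact one_twisted (TG2.twGp θ hcu hθ hneg) 3 TG2.o0 (by decide +kernel)

end CfsgLib.Lie.PMin
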